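import Cfsg.Agent.Lib.AschbacherFour.Sp.Geometry
import Cfsg.Agent.Lib.AschbacherFour.Clifford

/-!
Adjoints, orthogonal complements and determinants for a symplectic form in dimension four.
-/

set_option autoImplicit false

namespace Cfsg.Agent.AschbacherFour.Sp

open Matrix Aschbacher
open scoped MatrixGroups

variable {F : Type*} [Field F] {f : (Fin 4 → F) → (Fin 4 → F) → F}
  {H A : Subgroup (GL (Fin 4) F)}

/-- The functional `v ↦ f u v`. -/
def rightMap (hf : Geo.IsSymplecticForm f) (u : Fin 4 → F) : (Fin 4 → F) →ₗ[F] F where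
  toFun v := f u v
  map_add' x y := hf.bilinear.add_right u x y
  map_smul' r x := hf.bilinear.smul_right r u x

theorem neg_left (hf : Geo.IsSymplecticForm f) (u v : Fin 4 → F) : f (-u) v = -f u v :=
  (leftMap hf v).map_neg u

theorem neg_right (hf : Geo.IsSymplecticForm f) (u v : Fin 4 → F) : f u (-v) = -f u v :=
  (rightMap hf u).map_neg v

theorem form_eq_gram (hf : Geo.IsSymplecticForm f) (u v : Fin 4 → F) :
    f u v = u ⬝ᵥ Geo.gramMatrix f *ᵥ v := by
  show leftMap hf v u = _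
  conv_lhs => rw [pi_eq_sum_univ' u, map_sum]
  refine Finset.sum_congr rfl fun i _ => ?_
  rw [map_smul, smul_eq_mul]
  congr 1
  show rightMap hf (Pi.single i (1 : F) : Fin 4 → F) v = _
  conv_lhs => rw [pi_eq_sum_univ' v, map_sum]
  show _ = ∑ j, Geo.gramMatrix f i j * v j
  refine Finset.sum_congr rfl fun j _ => ?_
  rw [map_smul, smul_eq_mul, mul_comm]
  rfl

theorem gram_det_ne_zero (hf : Geo.IsSymplecticForm f) : (Geo.gramMatrix f).det ≠ 0 := by
  intro h0
  obtain ⟨w, hw0, hw⟩ := Matrix.exists_vecMul_eq_zero_iff.2 h0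
  obtain ⟨x, hx⟩ := (hf.nondegenerate w hw0).2
  exact hx (by rw [form_eq_gram hf, Matrix.dotProduct_mulVec, hw, zero_dotProduct])

theorem eq_of_form (hf : Geo.IsSymplecticForm f) {v w : Fin 4 → F} (h : ∀ u, f u v = f u w) :
    v = w := by
  by_contra hne
  obtain ⟨u, hu⟩ := (hf.nondegenerate _ (sub_ne_zero.2 hne)).1
  exact hu (by
    show rightMap hf u (v - w) = 0
    rw [map_sub]; exact sub_eq_zero.2 (h u))

/-- The adjoint for `f`. -/
noncomputable def adj (f : (Fin 4 → F) → (Fin 4 → F) → F) (M : Matrix (Fin 4) (Fin 4) F) :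
    Matrix (Fin 4) (Fin 4) F :=
  (Geo.gramMatrix f)⁻¹ * Mᵀ * Geo.gramMatrix f

theorem adj_spec (hf : Geo.IsSymplecticForm f) (M : Matrix (Fin 4) (Fin 4) F) (u v : Fin 4 → F) :
    f (M *ᵥ u) v = f u (adj f M *ᵥ v) := by
  rw [form_eq_gram hf, form_eq_gram hf, Matrix.mulVec_mulVec, adj, ← mul_assoc, ← mul_assoc,
    Matrix.mul_nonsing_inv _ (isUnit_iff_ne_zero.2 (gram_det_ne_zero hf)), one_mul,
    ← Matrix.vecMul_transpose, ← Matrix.dotProduct_mulVec, Matrix.mulVec_mulVec]

theorem adj_eq (hf : Geo.IsSymplecticForm f) {M N : Matrix (Fin 4) (Fin 4) F}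
    (h : ∀ u v, f (M *ᵥ u) v = f u (N *ᵥ v)) : adj f M = N :=
  Matrix.ext_of_mulVec_single fun i => eq_of_form hf fun u => by rw [← adj_spec hf, h]

theorem adj_mul (hf : Geo.IsSymplecticForm f) (M N : Matrix (Fin 4) (Fin 4) F) :
    adj f (M * N) = adj f N * adj f M :=
  adj_eq hf fun u v => by rw [← Matrix.mulVec_mulVec, adj_spec hf, adj_spec hf, Matrix.mulVec_mulVec]

theorem adj_one (hf : Geo.IsSymplecticForm f) : adj f (1 : Matrix (Fin 4) (Fin 4) F) = 1 :=
  adj_eq hf fun u v => by rw [Matrix.one_mulVec, Matrix.one_mulVec]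

theorem adj_zero (hf : Geo.IsSymplecticForm f) : adj f (0 : Matrix (Fin 4) (Fin 4) F) = 0 :=
  adj_eq hf fun u v => by simp [zero_left hf, zero_right hf]

theorem adj_add (hf : Geo.IsSymplecticForm f) (M N : Matrix (Fin 4) (Fin 4) F) :
    adj f (M + N) = adj f M + adj f N :=
  adj_eq hf fun u v => by
    rw [Matrix.add_mulVec, Matrix.add_mulVec, hf.bilinear.add_left, hf.bilinear.add_right,
      adj_spec hf, adj_spec hf]

theorem adj_smul (hf : Geo.IsSymplecticForm f) (a : F) (M : Matrix (Fin 4) (Fin 4) F) :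
    adj f (a • M) = a • adj f M :=
  adj_eq hf fun u v => by
    rw [Matrix.smul_mulVec, Matrix.smul_mulVec, hf.bilinear.smul_left, hf.bilinear.smul_right,
      adj_spec hf]

theorem adj_adj (hf : Geo.IsSymplecticForm f) (M : Matrix (Fin 4) (Fin 4) F) :
    adj f (adj f M) = M :=
  adj_eq hf fun u v => by rw [hf.skew, ← adj_spec hf, ← hf.skew]

theorem adj_pow (hf : Geo.IsSymplecticForm f) (M : Matrix (Fin 4) (Fin 4) F) (n : ℕ) :
    adj f (M ^ n) = adj f M ^ n := by
  induction n with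
  | zero => simp [adj_one hf]
  | succ n ih => rw [pow_succ', adj_mul hf, ih, pow_succ]

theorem iso_inv {g : GL (Fin 4) F} (hg : g ∈ isom f) (u v : Fin 4 → F) :
    f ((g : Matrix (Fin 4) (Fin 4) F) *ᵥ u) v =
      f u (((g⁻¹ : GL (Fin 4) F) : Matrix (Fin 4) (Fin 4) F) *ᵥ v) := by
  conv_lhs => rw [← mulVec_inv g v]
  exact hg u _

theorem adj_iso (hf : Geo.IsSymplecticForm f) {g : GL (Fin 4) F} (hg : g ∈ isom f) :
    adj f (g : Matrix (Fin 4) (Fin 4) F) = ((g⁻¹ : GL (Fin 4) F) : Matrix (Fin 4) (Fin 4) F) :=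
  adj_eq hf (iso_inv hg)

/-- The Pfaffian. -/
def pf (M : Matrix (Fin 4) (Fin 4) F) : F := M 0 1 * M 2 3 - M 0 2 * M 1 3 + M 0 3 * M 1 2

set_option maxHeartbeats 2000000 in
theorem det_eq_one_of_iso (hf : Geo.IsSymplecticForm f) {g : GL (Fin 4) F} (hg : g ∈ isom f) :
    (g : Matrix (Fin 4) (Fin 4) F).det = 1 := by
  set M := (g : Matrix (Fin 4) (Fin 4) F) with hM
  set G := Geo.gramMatrix f with hG
  have hd : ∀ i, G i i = 0 := fun i => hf.alternating _
  have hs : ∀ i j, G i j = -G j i := fun i j => hf.skew _ _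
  have heq : Mᵀ * G * M = G := by
    ext i j
    have h1 : f (M *ᵥ Pi.single i 1) (M *ᵥ Pi.single j 1) = G i j := hg _ _
    rw [form_eq_gram hf, Matrix.mulVec_mulVec, ← Matrix.vecMul_transpose,
      ← Matrix.dotProduct_mulVec, Matrix.mulVec_mulVec] at h1
    simpa [mul_assoc] using h1
  have key : pf (Mᵀ * G * M) = M.det * pf G := by
    rw [Matrix.det_succ_row_zero]
    simp [pf, Matrix.mul_apply, Fin.sum_univ_succ, Matrix.det_fin_three, Fin.succAbove, hd, hs 1 0,
      hs 2 0, hs 3 0, hs 2 1, hs 3 1, hs 3 2]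
    ring
  have hpf : pf G ≠ 0 := by
    intro h0
    refine gram_det_ne_zero hf ?_
    have : G.det = pf G ^ 2 := by
      rw [Matrix.det_succ_row_zero]
      simp [pf, Fin.sum_univ_succ, Matrix.det_fin_three, Fin.succAbove, hd, hs 1 0, hs 2 0, hs 3 0,
        hs 2 1, hs 3 1, hs 3 2]
      ring
    rw [← hG, this, h0, zero_pow two_ne_zero]
  rw [heq] at key
  exact mul_right_cancel₀ hpf (by rw [one_mul]; exact key.symm)

theorem isom_le_specialLinear (hf : Geo.IsSymplecticForm f) :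
    isom f ≤ Geo.specialLinear (Fin 4) F := fun g hg => by
  rw [Geo.specialLinear, MonoidHom.mem_ker]
  exact Units.ext (det_eq_one_of_iso hf hg)

theorem Ctx.le_specialLinear [Fintype F] (c : Ctx f H) : H ≤ Geo.specialLinear (Fin 4) F :=
  c.maximal.1.le.trans (isom_le_specialLinear c.form)

theorem commMat_adj (hf : Geo.IsSymplecticForm f) (hA : A ≤ isom f) {M : Matrix (Fin 4) (Fin 4) F}
    (hM : CommMat A M) : CommMat A (adj f M) := by
  intro x hx
  have h1 := congrArg (adj f) (hM x⁻¹ (A.inv_mem hx))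
  rw [adj_mul hf, adj_mul hf, adj_iso hf (hA (A.inv_mem hx)), inv_inv] at h1
  exact h1.symm

theorem centralComm_adj (hf : Geo.IsSymplecticForm f) (hA : A ≤ isom f)
    {M : Matrix (Fin 4) (Fin 4) F} (hM : CentralComm A M) : CentralComm A (adj f M) := by
  refine ⟨commMat_adj hf hA hM.1, fun B hB => ?_⟩
  have h1 := congrArg (adj f) (hM.2 _ (commMat_adj hf hA hB))
  rw [adj_mul hf, adj_mul hf, adj_adj hf] at h1
  exact h1.symm

/-- The orthogonal complement. -/
def perp (hf : Geo.IsSymplecticForm f) (W : Submodule F (Fin 4 → F)) : Submodule F (Fin 4 → F) where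
  carrier := {u | ∀ w ∈ W, f u w = 0}
  zero_mem' := fun w _ => zero_left hf w
  add_mem' := fun {u v} hu hv w hw => by rw [hf.bilinear.add_left, hu w hw, hv w hw, add_zero]
  smul_mem' := fun r u hu w hw => by rw [hf.bilinear.smul_left, hu w hw, mul_zero]

theorem four_le_finrank_perp (hf : Geo.IsSymplecticForm f) (W : Submodule F (Fin 4 → F)) :
    4 ≤ Module.finrank F W + Module.finrank F (perp hf W) := by
  let bW := Module.finBasis F W
  let L : (Fin 4 → F) →ₗ[F] (Fin (Module.finrank F W) → F) :=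
    LinearMap.pi fun i => leftMap hf (bW i : Fin 4 → F)
  have hker : LinearMap.ker L ≤ perp hf W := by
    intro u hu w hw
    show (rightMap hf u).comp W.subtype ⟨w, hw⟩ = 0
    rw [← bW.sum_repr ⟨w, hw⟩, map_sum]
    refine Finset.sum_eq_zero fun i _ => ?_
    rw [map_smul]
    show _ • f u (bW i) = 0
    rw [show f u (bW i) = 0 from congrFun (show L u = 0 from hu) i, smul_zero]
  have h1 := LinearMap.finrank_range_add_finrank_ker L
  have h2 := Submodule.finrank_le (LinearMap.range L)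
  have h3 := Submodule.finrank_mono hker
  simp [Module.finrank_fintype_fun_eq_card] at h1 h2
  omega

theorem mdecomp {W V : Submodule F (Fin 4 → F)} (hW : Module.finrank F W = 2)
    (hV : Module.finrank F V = 2) (h : W ⊓ V = ⊥) : Geo.IsMDecomposition 2 ![W, V] := by
  refine ⟨le_rfl, two_pos, fun i => ?_, ?_, ?_⟩
  · fin_cases i <;> assumption
  · rw [iSupIndep_pair (show (0 : Fin 2) ≠ 1 by decide) (fun i => by fin_cases i <;> simp)]
    simpa [disjoint_iff] using h
  · have h1 := Submodule.finrank_sup_add_finrank_inf_eq W V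
    rw [h, finrank_bot, add_zero, hW, hV] at h1
    have h2 : W ⊔ V = ⊤ := Submodule.eq_top_of_finrank_eq (by
      rw [h1, Module.finrank_fintype_fun_eq_card, Fintype.card_fin])
    exact eq_top_iff.2 (h2 ▸ sup_le (le_iSup ![W, V] 0) (le_iSup ![W, V] 1))

theorem nondeg_of_orth (hf : Geo.IsSymplecticForm f) {D : Fin 2 → Submodule F (Fin 4 → F)}
    (hD : Geo.IsMDecomposition 2 D) (h01 : ∀ u ∈ D 0, ∀ v ∈ D 1, f u v = 0) :
    Geo.IsNondegenerateMDecomposition f 2 D := by
  have ho : ∀ i j, i ≠ j → ∀ u ∈ D i, ∀ v ∈ D j, f u v = 0 := by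
    intro i j hij u hu v hv
    fin_cases i <;> fin_cases j <;> simp_all
    rw [hf.skew, h01 v hv u hu, neg_zero]
  refine ⟨hD, fun i v hv hv0 => ?_, fun i j hij u hu w hw => ho i j hij u hu w hw⟩
  obtain ⟨x, hx, hne⟩ : ∃ x ∈ D i, f v x ≠ 0 := by
    by_contra hcon
    push Not at hcon
    obtain ⟨u, hu⟩ := (hf.nondegenerate v hv0).2
    obtain ⟨a, ha, b, hb, rfl⟩ := Submodule.mem_sup.1 ((planes_sup hD).ge (Submodule.mem_top : u ∈ ⊤))
    refine hu ?_
    rw [hf.bilinear.add_right]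
    fin_cases i
    · rw [hcon a ha, ho 0 1 (by decide) v hv b hb, add_zero]
    · rw [hcon b hb, ho 1 0 (by decide) v hv a ha, add_zero]
  exact ⟨⟨x, hx, fun h0 => hne (by rw [hf.skew, h0, neg_zero])⟩, x, hx, hne⟩

/-- A nondegenerate plane has a hyperbolic pair spanning it. -/
theorem plane_pair (hf : Geo.IsSymplecticForm f) {D : Submodule F (Fin 4 → F)}
    (hd : Module.finrank F D = 2) (hnd : Geo.IsNondegenerateOn f D) :
    ∃ u ∈ D, ∃ v ∈ D, f u v = 1 ∧ ∀ w ∈ D, w = f w v • u + f u w • v := by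
  obtain ⟨u, hu, hu0⟩ := (Submodule.ne_bot_iff D).1 (fun h0 => by rw [h0, finrank_bot] at hd; omega)
  obtain ⟨x, hx, hne⟩ := (hnd u hu hu0).2
  refine ⟨u, hu, (f u x)⁻¹ • x, D.smul_mem _ hx, ?_, fun w hw => ?_⟩
  · rw [hf.bilinear.smul_right, inv_mul_cancel₀ hne]
  set v := (f u x)⁻¹ • x with hv
  have huv : f u v = 1 := by rw [hv, hf.bilinear.smul_right, inv_mul_cancel₀ hne]
  have hvu : f v u = -1 := by rw [hf.skew, huv]
  have hvD : v ∈ D := D.smul_mem _ hx
  have hli : LinearIndependent F ![(⟨u, hu⟩ : D), ⟨v, hvD⟩] := by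
    rw [LinearIndependent.pair_iff]
    intro s t hst
    have h0 : s • u + t • v = 0 := congrArg Subtype.val hst
    have h1 := congrArg (fun z => f z v) h0
    have h2 := congrArg (fun z => f z u) h0
    simp [hf.bilinear.add_left, hf.bilinear.smul_left, hf.alternating, huv, hvu, zero_left hf] at h1 h2
    exact ⟨h1, h2⟩
  have hspan := hli.span_eq_top_of_card_eq_finrank (by rw [hd, Fintype.card_fin])
  have hm : (⟨w, hw⟩ : D) ∈ Submodule.span F (Set.range ![(⟨u, hu⟩ : D), ⟨v, hvD⟩]) :=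
    hspan ▸ Submodule.mem_top
  obtain ⟨k, hk⟩ := (Submodule.mem_span_range_iff_exists_fun F).1 hm
  have hk' : k 0 • u + k 1 • v = w := by
    simpa [Fin.sum_univ_two] using congrArg Subtype.val hk
  rw [← hk']
  simp [hf.bilinear.add_left, hf.bilinear.smul_left, hf.bilinear.add_right, hf.bilinear.smul_right,
    hf.alternating, huv]

/-- A family with a non-singular Gram matrix is a basis. -/
theorem exists_basis (hf : Geo.IsSymplecticForm f) {v : Fin 4 → (Fin 4 → F)}
    (r : Fin 4 → Fin 4) (hr : ∀ i j, j ≠ i → f (v j) (v (r i)) = 0)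
    (hne : ∀ i, f (v i) (v (r i)) ≠ 0) :
    ∃ b : Module.Basis (Fin 4) F (Fin 4 → F), ∀ i, b i = v i := by
  have hli : LinearIndependent F v := by
    rw [Fintype.linearIndependent_iff]
    intro g hg i
    have h1 := congrArg (leftMap hf (v (r i))) hg
    rw [map_sum, map_zero] at h1
    simp only [map_smul, smul_eq_mul] at h1
    rw [Finset.sum_eq_single i] at h1
    · exact (mul_eq_zero.1 h1).resolve_right (hne i)
    · intro j _ hj
      show g j * f (v j) (v (r i)) = 0
      rw [hr i j hj, mul_zero]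
    · simp
  exact ⟨basisOfLinearIndependentOfCardEqFinrank hli (by simp), fun i => by simp⟩

end Cfsg.Agent.AschbacherFour.Sp
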