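import Cfsg.Agent.Lib.AschbacherFour.Sp.Basic

/-!
Reducible subgroups and subgroups permuting lines or planes in the symplectic group of dimension four.
-/

set_option autoImplicit false

namespace Cfsg.Agent.AschbacherFour.Sp

open Matrix Aschbacher
open scoped MatrixGroups

variable {F : Type*} [Field F] {f : (Fin 4 → F) → (Fin 4 → F) → F}
  {H A : Subgroup (GL (Fin 4) F)}

theorem le_decompositionStabilizer {D : Fin 2 → Submodule F (Fin 4 → F)}
    (hD : Geo.IsMDecomposition 2 D)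
    (himg : ∀ g ∈ H, ∃ π : Equiv.Perm (Fin 2), ∀ i, ∀ v ∈ D i,
      (g : Matrix (Fin 4) (Fin 4) F) *ᵥ v ∈ D (π i)) :
    H ≤ Geo.decompositionStabilizer D := by
  intro g hg
  obtain ⟨π, hπ⟩ := himg g hg
  refine ⟨π, fun i => Submodule.eq_of_le_of_finrank_le (fun w hw => ?_) ?_⟩
  · obtain ⟨v, hv, rfl⟩ := Submodule.mem_map.1 hw
    rw [Matrix.toLin'_apply]
    exact hπ i v hv
  · rw [hD.finrank_eq, show (D i).map (Matrix.toLin' (g : Matrix (Fin 4) (Fin 4) F)) = translate g (D i)
      from rfl, finrank_translate, hD.finrank_eq]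

variable [Fintype F]

theorem odd_cases (hodd : Odd (Fintype.card F)) : Fintype.card F = 3 ∨ 5 ≤ Fintype.card F := by
  have h1 : 1 < Fintype.card F := Fintype.one_lt_card
  obtain ⟨k, hk⟩ := hodd
  omega

/-- Two orthogonal planes. -/
theorem geometric_orth_planes (c : Ctx f H) {D : Fin 2 → Submodule F (Fin 4 → F)}
    (hD : Geo.IsNondegenerateMDecomposition f 2 D) (hH : H ≤ Geo.decompositionStabilizer D) :
    SGeometric f H :=
  Or.inr <| Or.inl ⟨D, hD, c.eq_inf hH (not_le_orth_planes c.form hD)⟩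

/-- Similitudes of a quadratic form with polar form `f`. -/
theorem geometric_quad (c : Ctx f H) (heven : ¬ Odd (Fintype.card F)) {Q : (Fin 4 → F) → F}
    (hQ : Geo.IsNondegenerateQuadraticForm Q) (hpol : ∀ u v, QuadraticMap.polar Q u v = f u v)
    (hle : H ≤ Geo.quadSimilarityGroup Q) : SGeometric f H :=
  Or.inr <| Or.inr <| Or.inr <| Or.inr <| Or.inr <| Or.inr <| Or.inr
    ⟨heven, Q, hQ, hpol,
      c.eq_inf hle (not_le_quadSimilarity c.form (c.even_two heven) (c.four_le heven) hQ hpol)⟩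

/-- A quadratic form is one with the given polar form as soon as it is homogeneous. -/
theorem quad_of_polar (hf : Geo.IsSymplecticForm f) {Q : (Fin 4 → F) → F}
    (hs : ∀ (a : F) v, Q (a • v) = a ^ 2 * Q v) (hadd : ∀ u v, Q (u + v) = Q u + Q v + f u v) :
    Geo.IsNondegenerateQuadraticForm Q ∧ ∀ u v, QuadraticMap.polar Q u v = f u v := by
  have hpol : QuadraticMap.polar Q = f := by
    funext u v
    rw [QuadraticMap.polar, hadd]
    ring
  exact ⟨⟨hs, hpol ▸ hf.bilinear, hpol ▸ hf.nondegenerate⟩, fun u v => by rw [hpol]⟩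

/-- Two totally isotropic planes. -/
theorem geometric_ts_planes (c : Ctx f H) {D : Fin 2 → Submodule F (Fin 4 → F)}
    (hD : Geo.IsMDecomposition 2 D) (hts : ∀ i, Geo.IsTotallySingularFor f (D i))
    (hH : H ≤ Geo.decompositionStabilizer D) : SGeometric f H := by
  classical
  have hf := c.form
  have himg : ∀ g ∈ H, ∃ π : Equiv.Perm (Fin 2), ∀ i, ∀ v ∈ D i,
      (g : Matrix (Fin 4) (Fin 4) F) *ᵥ v ∈ D (π i) := fun g hg => by
    obtain ⟨π, hπ⟩ := hH hg
    exact ⟨π, fun i v hv => by rw [← hπ i]; exact ⟨v, hv, Matrix.toLin'_apply _ _⟩⟩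
  by_cases hodd : Odd (Fintype.card F)
  swap
  · -- a quadratic form of plus type
    have h2 := c.even_two hodd
    have hc : IsCompl (D 0) (D 1) :=
      ⟨hD.indep.pairwiseDisjoint (show (0 : Fin 2) ≠ 1 by decide), codisjoint_iff.2 (planes_sup hD)⟩
    let p0 : (Fin 4 → F) →ₗ[F] (Fin 4 → F) := (D 0).subtype.comp (Submodule.projectionOnto _ _ hc)
    let Q : (Fin 4 → F) → F := fun v => f (p0 v) (v - p0 v)
    have hmem0 : ∀ v, p0 v ∈ D 0 := fun v => Subtype.prop _
    have hp : ∀ u ∈ D 0, ∀ w ∈ D 1, p0 (u + w) = u := fun u hu w hw => by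
      simp [p0, Submodule.projectionOnto_apply_left hc ⟨u, hu⟩,
        Submodule.projectionOnto_apply_right hc ⟨w, hw⟩]
    have hQ : ∀ u ∈ D 0, ∀ w ∈ D 1, Q (u + w) = f u w := fun u hu w hw => by
      show f (p0 (u + w)) (u + w - p0 (u + w)) = f u w
      rw [hp u hu w hw, add_sub_cancel_left]
    have hsplit : ∀ v, ∃ u ∈ D 0, ∃ w ∈ D 1, u + w = v := fun v =>
      Submodule.mem_sup.1 ((planes_sup hD).ge (Submodule.mem_top : v ∈ ⊤))
    obtain ⟨hQn, hpol⟩ := quad_of_polar hf (Q := Q)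
      (fun a v => by
        show f (p0 (a • v)) (a • v - p0 (a • v)) = a ^ 2 * f (p0 v) (v - p0 v)
        rw [map_smul, ← smul_sub, hf.bilinear.smul_left, hf.bilinear.smul_right]
        ring)
      (fun x y => by
        obtain ⟨u, hu, w, hw, rfl⟩ := hsplit x
        obtain ⟨u', hu', w', hw', rfl⟩ := hsplit y
        rw [add_add_add_comm, hQ _ ((D 0).add_mem hu hu') _ ((D 1).add_mem hw hw'), hQ u hu w hw,
          hQ u' hu' w' hw']
        simp only [hf.bilinear.add_left, hf.bilinear.add_right, hts 0 u hu u' hu', hts 1 w hw w' hw']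
        rw [hf.skew w u']
        linear_combination (f u' w) * h2)
    refine geometric_quad c hodd hQn hpol fun g hg => ⟨1, fun v => ?_⟩
    obtain ⟨u, hu, w, hw, rfl⟩ := hsplit v
    obtain ⟨π, hπ⟩ := himg g hg
    rw [Units.val_one, one_mul, hQ u hu w hw, Matrix.mulVec_add]
    obtain ⟨s0, s1⟩ | ⟨s0, s1⟩ := (show ∀ s : Equiv.Perm (Fin 2),
      (s 0 = 0 ∧ s 1 = 1) ∨ (s 0 = 1 ∧ s 1 = 0) by decide) π
    · rw [hQ _ (s0 ▸ hπ 0 u hu) _ (s1 ▸ hπ 1 w hw), c.iso hg]
    · rw [add_comm, hQ _ (s1 ▸ hπ 1 w hw) _ (s0 ▸ hπ 0 u hu), c.iso hg, hf.skew]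
      linear_combination (-(f u w)) * h2
  rcases odd_cases hodd with hq | h5
  swap
  · exact Or.inr <| Or.inr <| Or.inl ⟨hodd, h5, D, hD, hts, c.eq_inf hH (not_le_ts_planes hf hD hts)⟩
  -- three elements: the decomposition splits into two orthogonal planes
  have h2 : (2 : F) ≠ 0 := two_ne_zero_of_odd hodd
  let e : Fin 2 → (Fin 4 → F) := fun k => (Module.finBasisOfFinrankEq F (D 0) (hD.finrank_eq 0) k : _)
  have he : ∀ k, e k ∈ D 0 := fun k => Subtype.prop _
  let Φ : D 1 →ₗ[F] (Fin 2 → F) := LinearMap.pi fun k => (rightMap hf (e k)).comp (D 1).subtype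
  have hinj : Function.Injective Φ := by
    rw [injective_iff_map_eq_zero]
    rintro ⟨v, hv⟩ hΦ
    by_contra hne
    obtain ⟨t, ht⟩ := (hf.nondegenerate v fun h0 => hne (Subtype.ext h0)).1
    obtain ⟨t0, ht0, t1, ht1, rfl⟩ :=
      Submodule.mem_sup.1 ((planes_sup hD).ge (Submodule.mem_top : t ∈ ⊤))
    apply ht
    rw [hf.bilinear.add_left, hts 1 t1 ht1 v hv, add_zero]
    show (leftMap hf v).comp (D 0).subtype ⟨t0, ht0⟩ = 0
    rw [← (Module.finBasisOfFinrankEq F (D 0) (hD.finrank_eq 0)).sum_repr ⟨t0, ht0⟩, map_sum]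
    refine Finset.sum_eq_zero fun k _ => ?_
    rw [map_smul]
    show _ • f (e k) v = 0
    rw [show f (e k) v = 0 from congrFun hΦ k, smul_zero]
  have hsurj : Function.Surjective Φ := (LinearMap.injective_iff_surjective_of_finrank_eq_finrank
    (by rw [hD.finrank_eq 1, Module.finrank_fintype_fun_eq_card, Fintype.card_fin])).1 hinj
  choose w₁ hw₁ using fun k : Fin 2 => hsurj (Pi.single k 1)
  let w : Fin 2 → (Fin 4 → F) := fun k => (w₁ k : Fin 4 → F)
  have hw : ∀ k, w k ∈ D 1 := fun k => (w₁ k).2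
  have hew : ∀ l k, f (e k) (w l) = if k = l then 1 else 0 := fun l k => by
    have := congrFun (hw₁ l) k
    simpa [Φ, rightMap, Pi.single_apply, w] using this
  have hwe : ∀ l k, f (w l) (e k) = if k = l then -1 else 0 := fun l k => by
    rw [hf.skew, hew]; split <;> simp
  have hee : ∀ k l, f (e k) (e l) = 0 := fun k l => hts 0 _ (he k) _ (he l)
  have hww : ∀ k l, f (w k) (w l) = 0 := fun k l => hts 1 _ (hw k) _ (hw l)
  have hspan0 : ∀ u ∈ D 0, ∃ a b : F, u = a • e 0 + b • e 1 := fun u hu => by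
    refine ⟨(Module.finBasisOfFinrankEq F (D 0) (hD.finrank_eq 0)).repr ⟨u, hu⟩ 0,
      (Module.finBasisOfFinrankEq F (D 0) (hD.finrank_eq 0)).repr ⟨u, hu⟩ 1, ?_⟩
    have h1 := congrArg Subtype.val
      ((Module.finBasisOfFinrankEq F (D 0) (hD.finrank_eq 0)).sum_repr ⟨u, hu⟩)
    rw [Fin.sum_univ_two] at h1
    exact h1.symm
  have hspan1 : ∀ u ∈ D 1, ∃ a b : F, u = a • w 0 + b • w 1 := fun u hu => by
    refine ⟨f (e 0) u, f (e 1) u, ?_⟩
    have h0 : (⟨u, hu⟩ : D 1) = f (e 0) u • w₁ 0 + f (e 1) u • w₁ 1 := hinj (by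
      rw [map_add, map_smul, map_smul, hw₁, hw₁]
      funext k
      fin_cases k <;> simp [Φ, rightMap, e])
    exact congrArg Subtype.val h0
  let sgn : Fin 2 → F := ![1, -1]
  let x : Fin 2 → (Fin 4 → F) := fun i => e 0 - sgn i • w 1
  let y : Fin 2 → (Fin 4 → F) := fun i => e 1 + sgn i • w 0
  let P : Fin 2 → Submodule F (Fin 4 → F) := fun i => Submodule.span F {x i, y i}
  have hsgn : ∀ i, sgn i * sgn i = 1 := fun i => by fin_cases i <;> simp [sgn]
  have hform : ∀ i j, f (x i) (x j) = 0 ∧ f (y i) (y j) = 0 ∧ f (x i) (y j) = sgn i + sgn j := by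
    intro i j
    simp [x, y, sub_eq_add_neg, hf.bilinear.add_left, hf.bilinear.add_right, hf.bilinear.smul_left,
      hf.bilinear.smul_right, neg_left hf, neg_right hf, hew, hwe, hee, hww]
    ring
  have hli : ∀ i, LinearIndependent F ![x i, y i] := fun i => by
    rw [LinearIndependent.pair_iff]
    intro s t hst
    have h1 := congrArg (fun z => f z (y i)) hst
    have h3 := congrArg (fun z => f (x i) z) hst
    simp [hf.bilinear.add_left, hf.bilinear.smul_left, hf.bilinear.add_right, hf.bilinear.smul_right,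
      hform, zero_left hf, zero_right hf, hf.alternating, ← two_mul, h2] at h1 h3
    have hs : sgn i ≠ 0 := fun h0 => by simpa [h0] using hsgn i
    exact ⟨h1.resolve_right hs, h3.resolve_right hs⟩
  have hPd : ∀ i, Module.finrank F (P i) = 2 := fun i => by
    have := finrank_span_eq_card (hli i)
    rw [Matrix.range_cons_cons_empty, Fintype.card_fin] at this
    exact this
  have hortho : ∀ u ∈ P 0, ∀ v ∈ P 1, f u v = 0 := by
    intro u hu v hv
    obtain ⟨a, b, rfl⟩ := Submodule.mem_span_pair.1 hu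
    obtain ⟨a', b', rfl⟩ := Submodule.mem_span_pair.1 hv
    have h01 := hform 0 1
    have h10 := hform 1 0
    simp [sgn] at h01 h10
    simp [hf.bilinear.add_left, hf.bilinear.smul_left, hf.bilinear.add_right, hf.bilinear.smul_right,
      h01, hf.skew (y 0) (x 1), h10]
  have hPdis : P 0 ⊓ P 1 = ⊥ := by
    rw [Submodule.eq_bot_iff]
    rintro v ⟨hv0, hv1⟩
    obtain ⟨a, b, rfl⟩ := Submodule.mem_span_pair.1 hv1
    have h1 := hortho _ (Submodule.subset_span (show x 0 ∈ ({x 0, y 0} : Set _) by simp)) _ hv1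
    obtain ⟨a', b', hab⟩ := Submodule.mem_span_pair.1 hv0
    have e1 := congrArg (fun z => f (x 0) z) hab
    have e2 := congrArg (fun z => f z (y 0)) hab
    have h3 := hortho _ hv0 _ (Submodule.subset_span (show y 1 ∈ ({x 1, y 1} : Set _) by simp))
    have h4 := hortho _ (Submodule.subset_span (show y 0 ∈ ({x 0, y 0} : Set _) by simp)) _ hv1
    rw [← hab] at h1 h4 ⊢
    simp [hf.bilinear.add_left, hf.bilinear.smul_left, hf.bilinear.add_right, hf.bilinear.smul_right,
      hform, hf.alternating, hf.skew (y 0) (x 0), sgn, ← two_mul, h2] at h1 h4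
    rw [h1, h4, zero_smul, zero_smul, add_zero]
  have hP : Geo.IsMDecomposition 2 P := by
    have hPe : P = ![P 0, P 1] := funext fun i => by fin_cases i <;> rfl
    rw [hPe]
    exact mdecomp (hPd 0) (hPd 1) hPdis
  refine geometric_orth_planes c (nondeg_of_orth hf hP hortho)
    (le_decompositionStabilizer hP fun g hg => ?_)
  obtain ⟨π, hπ⟩ := himg g hg
  have hunit : ∀ z : F, z ≠ 0 → z = 1 ∨ z = -1 := fun z hz => by
    have h1 := FiniteField.pow_card_sub_one_eq_one z hz
    rw [hq] at h1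
    exact sq_eq_one_iff.1 h1
  set G := (g : Matrix (Fin 4) (Fin 4) F) with hG
  have hne : ∀ k, G *ᵥ e k ≠ 0 := fun k h0 => by
    have h1 := hew k k
    rw [← c.iso hg, ← hG, h0, zero_left hf, if_pos rfl] at h1
    exact zero_ne_one h1
  -- an image of each basis vector, and the sign
  suffices hmain : ∃ ε : F, (ε = 1 ∨ ε = -1) ∧ ∀ i, ∀ j, sgn j = ε * sgn i →
      G *ᵥ x i ∈ P j ∧ G *ᵥ y i ∈ P j by
    obtain ⟨ε, hε, hmem⟩ := hmain
    obtain ⟨τ, hτ⟩ : ∃ τ : Equiv.Perm (Fin 2), ∀ i, sgn (τ i) = ε * sgn i := by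
      rcases hε with rfl | rfl
      · exact ⟨1, fun i => by simp⟩
      · exact ⟨Equiv.swap 0 1, fun i => by fin_cases i <;> simp [sgn]⟩
    refine ⟨τ, fun i v hv => ?_⟩
    obtain ⟨a, b, rfl⟩ := Submodule.mem_span_pair.1 hv
    rw [Matrix.mulVec_add, Matrix.mulVec_smul, Matrix.mulVec_smul]
    exact (P _).add_mem ((P _).smul_mem a (hmem i _ (hτ i)).1) ((P _).smul_mem b (hmem i _ (hτ i)).2)
  obtain ⟨s0, s1⟩ | ⟨s0, s1⟩ := (show ∀ s : Equiv.Perm (Fin 2),
    (s 0 = 0 ∧ s 1 = 1) ∨ (s 0 = 1 ∧ s 1 = 0) by decide) π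
  · obtain ⟨a, cc, hA⟩ := hspan0 _ (s0 ▸ hπ 0 _ (he 0))
    obtain ⟨b, d, hB⟩ := hspan0 _ (s0 ▸ hπ 0 _ (he 1))
    obtain ⟨p, s, hC⟩ := hspan1 _ (s1 ▸ hπ 1 _ (hw 0))
    obtain ⟨r, t, hE⟩ := hspan1 _ (s1 ▸ hπ 1 _ (hw 1))
    have e00 := hew 0 0
    have e01 := hew 0 1
    have e10 := hew 1 0
    have e11 := hew 1 1
    rw [← c.iso hg] at e00 e01 e10 e11
    simp [← hG, hA, hB, hC, hE, hf.bilinear.add_left, hf.bilinear.smul_left, hf.bilinear.add_right,
      hf.bilinear.smul_right, hew] at e00 e01 e10 e11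
    have hδ : a * d - b * cc ≠ 0 := fun h0 => hne 0 (by
      have h1 : a = 0 := by linear_combination t * h0 - a * e11 + b * e10
      have h3 : cc = 0 := by linear_combination (-r) * h0 - cc * e11 + d * e10
      simp [← hG, hA, h1, h3])
    obtain ⟨ε, hεdef⟩ : ∃ ε, a * d - b * cc = ε := ⟨_, rfl⟩
    have hεε : ε * ε = 1 := by
      rcases hunit ε (hεdef ▸ hδ) with h | h <;> rw [h] <;> ring
    have k1 : p = ε * d := by linear_combination d * ε * e00 - cc * ε * e01 + (-(p * ε)) * hεdef - p * hεε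
    have k2 : s = -ε * b := by
      linear_combination a * ε * e01 - b * ε * e00 - s * ε * hεdef - s * hεε
    have k3 : r = -ε * cc := by
      linear_combination d * ε * e10 - cc * ε * e11 - r * ε * hεdef - r * hεε
    have k4 : t = ε * a := by
      linear_combination a * ε * e11 - b * ε * e10 - t * ε * hεdef - t * hεε
    refine ⟨ε, hunit ε (hεdef ▸ hδ), fun i j hj => ⟨Submodule.mem_span_pair.2 ⟨a, cc, ?_⟩,
      Submodule.mem_span_pair.2 ⟨b, d, ?_⟩⟩⟩
    · simp only [x, y, hj, Matrix.mulVec_sub, Matrix.mulVec_smul, ← hG, hA, hE, k3, k4]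
      module
    · simp only [x, y, hj, Matrix.mulVec_add, Matrix.mulVec_smul, ← hG, hB, hC, k1, k2]
      module
  · obtain ⟨a, cc, hA⟩ := hspan1 _ (s0 ▸ hπ 0 _ (he 0))
    obtain ⟨b, d, hB⟩ := hspan1 _ (s0 ▸ hπ 0 _ (he 1))
    obtain ⟨p, s, hC⟩ := hspan0 _ (s1 ▸ hπ 1 _ (hw 0))
    obtain ⟨r, t, hE⟩ := hspan0 _ (s1 ▸ hπ 1 _ (hw 1))
    have e00 := hew 0 0
    have e01 := hew 0 1
    have e10 := hew 1 0
    have e11 := hew 1 1
    rw [← c.iso hg] at e00 e01 e10 e11
    simp [← hG, hA, hB, hC, hE, hf.bilinear.add_left, hf.bilinear.smul_left, hf.bilinear.add_right,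
      hf.bilinear.smul_right, hwe] at e00 e01 e10 e11
    have hδ : a * d - b * cc ≠ 0 := fun h0 => hne 0 (by
      have h1 : a = 0 := by linear_combination -t * h0 - a * e11 + b * e10
      have h3 : cc = 0 := by linear_combination r * h0 - cc * e11 + d * e10
      simp [← hG, hA, h1, h3])
    obtain ⟨ε, hεdef⟩ : ∃ ε, a * d - b * cc = ε := ⟨_, rfl⟩
    have hεε : ε * ε = 1 := by
      rcases hunit ε (hεdef ▸ hδ) with h | h <;> rw [h] <;> ring
    have k1 : p = -ε * d := by
      linear_combination -d * ε * e00 + cc * ε * e01 - p * ε * hεdef - p * hεε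
    have k2 : s = ε * b := by
      linear_combination -a * ε * e01 + b * ε * e00 - s * ε * hεdef - s * hεε
    have k3 : r = ε * cc := by
      linear_combination -d * ε * e10 + cc * ε * e11 - r * ε * hεdef - r * hεε
    have k4 : t = -ε * a := by
      linear_combination -a * ε * e11 + b * ε * e10 - t * ε * hεdef - t * hεε
    have hq2 : ∀ i, ε * sgn i * (ε * sgn i) = 1 := fun i => by
      rw [mul_mul_mul_comm, hεε, hsgn, mul_one]
    refine ⟨ε, hunit ε (hεdef ▸ hδ), fun i j hj => ⟨Submodule.mem_span_pair.2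
      ⟨-(ε * sgn i * cc), ε * sgn i * a, ?_⟩,
      Submodule.mem_span_pair.2 ⟨-(ε * sgn i * d), ε * sgn i * b, ?_⟩⟩⟩
    · simp only [x, y, hj, Matrix.mulVec_sub, Matrix.mulVec_smul, ← hG, hA, hE, k3, k4]
      match_scalars <;> first
        | ring1
        | linear_combination a * hq2 i
        | linear_combination -a * hq2 i
        | linear_combination b * hq2 i
        | linear_combination -b * hq2 i
        | linear_combination cc * hq2 i
        | linear_combination -cc * hq2 i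
        | linear_combination d * hq2 i
        | linear_combination -d * hq2 i
    · simp only [x, y, hj, Matrix.mulVec_add, Matrix.mulVec_smul, ← hG, hB, hC, k1, k2]
      match_scalars <;> first
        | ring1
        | linear_combination a * hq2 i
        | linear_combination -a * hq2 i
        | linear_combination b * hq2 i
        | linear_combination -b * hq2 i
        | linear_combination cc * hq2 i
        | linear_combination -cc * hq2 i
        | linear_combination d * hq2 i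
        | linear_combination -d * hq2 i

/-- A reducible maximal subgroup. -/
theorem geometric_reducible (c : Ctx f H) (hirr : ¬ Irr H) : SGeometric f H := by
  classical
  have hf := c.form
  rw [irr_iff] at hirr
  push Not at hirr
  obtain ⟨W, hW, hW0, hW1⟩ := hirr
  set V := perp hf W with hVdef
  have hV : Invariant H V := by
    intro g hg u hu w hw
    have h1 := c.iso hg u (((g⁻¹ : GL (Fin 4) F) : Matrix (Fin 4) (Fin 4) F) *ᵥ w)
    rw [mulVec_inv] at h1
    rw [h1]
    exact hu _ (hW g⁻¹ (H.inv_mem hg) w hw)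
  by_cases hWV : W ⊓ V = ⊥
  swap
  · exact Or.inl ⟨W ⊓ V, hWV, fun u hu v hv => hu.2 v hv.1,
      c.eq_inf (fun g hg => mem_subspaceStabilizer ((hW.inf hV) g hg))
        (not_le_subspace hf hWV fun h0 => hW1 (top_le_iff.1 (h0 ▸ inf_le_left)))⟩
  have hdim := four_le_finrank_perp hf W
  have h1 := Submodule.finrank_sup_add_finrank_inf_eq W V
  have h2 := Submodule.finrank_le (W ⊔ V)
  rw [hWV, finrank_bot, add_zero] at h1
  rw [Module.finrank_fintype_fun_eq_card, Fintype.card_fin] at h2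
  rw [← hVdef] at hdim
  have hsup : W ⊔ V = ⊤ := Submodule.eq_top_of_finrank_eq (by
    rw [Module.finrank_fintype_fun_eq_card, Fintype.card_fin]; omega)
  -- a line is its own radical
  have hline : ∀ U : Submodule F (Fin 4 → F), Module.finrank F U = 1 →
      ∀ u ∈ U, ∀ v ∈ U, f u v = 0 := by
    intro U hU u hu v hv
    by_cases hu0 : u = 0
    · rw [hu0, zero_left hf]
    obtain ⟨a, ha⟩ := (finrank_eq_one_iff_of_nonzero' (⟨u, hu⟩ : U)
      (fun h => hu0 (congrArg Subtype.val h))).1 hU ⟨v, hv⟩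
    rw [← show a • u = v from congrArg Subtype.val ha, hf.bilinear.smul_right, hf.alternating, mul_zero]
  have hd1 : Module.finrank F W ≠ 1 := fun hd => hW0 (by
    rw [← hWV]; exact (inf_eq_left.2 fun u hu w hw => hline W hd u hu w hw).symm)
  have hd3 : Module.finrank F V ≠ 1 := fun hd => by
    obtain ⟨v, hv, hv0⟩ := (Submodule.ne_bot_iff V).1 (fun h0 => by rw [h0, finrank_bot] at hd; omega)
    obtain ⟨x, hx⟩ := (hf.nondegenerate v hv0).2
    obtain ⟨a, ha, b, hb, rfl⟩ := Submodule.mem_sup.1 (hsup.ge (Submodule.mem_top : x ∈ ⊤))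
    exact hx (by rw [hf.bilinear.add_right, hv a ha, hline V hd v hv b hb, add_zero])
  have hW2 : Module.finrank F W ≠ 0 := fun h0 => hW0 (Submodule.finrank_eq_zero.1 h0)
  have hW4 : Module.finrank F W < 4 := by
    have := Submodule.finrank_lt_finrank_of_lt (lt_top_iff_ne_top.2 hW1)
    rwa [finrank_top, Module.finrank_fintype_fun_eq_card, Fintype.card_fin] at this
  have hD := mdecomp (show Module.finrank F W = 2 by omega) (show Module.finrank F V = 2 by omega) hWV
  refine geometric_orth_planes c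
    (nondeg_of_orth hf hD fun u hu v hv => by rw [hf.skew]; exact neg_eq_zero.2 (hv u hu))
    (le_decompositionStabilizer hD fun g hg => ⟨1, fun i v hv => ?_⟩)
  have hi : Invariant H (![W, V] i) := by fin_cases i <;> assumption
  simpa using hi g hg v hv

/-- Four lines permuted by `H`. -/
theorem geometric_lines_case (c : Ctx f H) (hAH : A ≤ H) (hl : LinesCase H A) : SGeometric f H := by
  classical
  obtain ⟨b, hdiag, hperm, hcomm⟩ := hl
  have hf := c.form
  have huniq : ∀ i i' j, f (b i) (b j) ≠ 0 → f (b i') (b j) ≠ 0 → i = i' := by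
    intro i i' j hi hi'
    by_contra hne
    let p : Matrix (Fin 4) (Fin 4) F := LinearMap.toMatrix' ((b.coord i).smulRight (b i))
    have hp : ∀ k, p *ᵥ b k = if k = i then b i else 0 := fun k => by
      simp [p, LinearMap.toMatrix'_mulVec, Finsupp.single_apply, eq_comm]
    have hpA : CommMat A p := by
      intro x hx
      refine Matrix.toLin'.injective (b.ext fun k => ?_)
      simp only [Matrix.toLin'_apply, ← Matrix.mulVec_mulVec]
      obtain ⟨d, hd⟩ := hdiag x hx k
      rw [hp, hd, Matrix.mulVec_smul, hp]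
      by_cases hk : k = i
      · subst hk; rw [if_pos rfl, hd]
      · rw [if_neg hk, Matrix.mulVec_zero, smul_zero]
    obtain ⟨d, hd⟩ := hcomm _ (commMat_adj hf (hAH.trans c.maximal.1.le) hpA) j
    have h1 : ∀ k, f (p *ᵥ b k) (b j) = d * f (b k) (b j) := fun k => by
      rw [adj_spec hf, hd, hf.bilinear.smul_right]
    have e1 := h1 i
    have e2 := h1 i'
    rw [hp, if_pos rfl] at e1
    rw [hp, if_neg (Ne.symm hne), zero_left hf] at e2
    rcases mul_eq_zero.1 e2.symm with hd0 | hd0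
    · rw [hd0, zero_mul] at e1; exact hi e1
    · exact hi' hd0
  have hex : ∀ j, ∃ i, f (b i) (b j) ≠ 0 := by
    intro j
    by_contra hcon
    push Not at hcon
    obtain ⟨u, hu⟩ := (hf.nondegenerate (b j) (b.ne_zero j)).1
    apply hu
    show leftMap hf (b j) u = 0
    rw [← b.sum_repr u, map_sum]
    exact Finset.sum_eq_zero fun k _ => by
      rw [map_smul]
      show _ * f (b k) (b j) = 0
      rw [hcon, mul_zero]
  choose τ hτ using hex
  have hττ : ∀ i, τ (τ i) = i := fun i =>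
    huniq (τ (τ i)) i (τ i) (hτ (τ i)) fun h0 => hτ i (c.form_right _ _ h0)
  have hzero : ∀ i j, i ≠ τ j → f (b i) (b j) = 0 := fun i j hij => by
    by_contra hne
    exact hij (huniq i (τ j) j hne (hτ j))
  have hτπ : ∀ g ∈ H, ∀ (π : Equiv.Perm (Fin 4)), (∀ i, ∃ d : F,
      (g : Matrix (Fin 4) (Fin 4) F) *ᵥ b i = d • b (π i)) → ∀ i, τ (π i) = π (τ i) := by
    intro g hg π hπ i
    obtain ⟨d, hd⟩ := hπ i
    obtain ⟨d', hd'⟩ := hπ (τ i)
    refine huniq _ _ (π i) (hτ (π i)) fun h0 => hτ i ?_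
    rw [← c.iso hg, hd', hd, hf.bilinear.smul_left, hf.bilinear.smul_right, h0, mul_zero, mul_zero]
  have hfix : ∀ i, τ i ≠ i := fun i h0 => hτ i (by rw [h0, hf.alternating])
  have hfacts : ∀ t : Fin 4 → Fin 4, (∀ i, t (t i) = i) → (∀ i, t i ≠ i) →
      ∃ e : Equiv.Perm (Fin 4), ∀ i, t (e i) = e (![1, 0, 3, 2] i) := by decide +kernel
  obtain ⟨e, he⟩ := hfacts τ hττ hfix
  let D : Fin 2 → Submodule F (Fin 4 → F) :=
    ![Submodule.span F {b (e 0), b (e 1)}, Submodule.span F {b (e 2), b (e 3)}]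
  have hDd : ∀ k l : Fin 4, k ≠ l → Module.finrank F (Submodule.span F {b (e k), b (e l)}) = 2 := by
    intro k l hkl
    have hli : LinearIndependent F ![b (e k), b (e l)] := by
      have h1 := b.linearIndependent.comp (![e k, e l]) (fun m n hmn => by
        fin_cases m <;> fin_cases n <;> simp [e.injective.eq_iff, hkl, hkl.symm] at hmn ⊢)
      rwa [show b ∘ ![e k, e l] = ![b (e k), b (e l)] by funext m; fin_cases m <;> rfl] at h1
    have := finrank_span_eq_card hli
    rw [Matrix.range_cons_cons_empty, Fintype.card_fin] at this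
    exact this
  have hmemD : ∀ k : Fin 4, b (e k) ∈ D (![0, 0, 1, 1] k) := fun k => by
    fin_cases k <;> exact Submodule.subset_span (by simp)
  have hD : Geo.IsMDecomposition 2 D := by
    refine mdecomp (hDd 0 1 (by decide)) (hDd 2 3 (by decide)) ((Submodule.eq_bot_iff _).2 ?_)
    rintro v ⟨hv0, hv1⟩
    obtain ⟨a0, a1, rfl⟩ := Submodule.mem_span_pair.1 hv0
    obtain ⟨a2, a3, hv⟩ := Submodule.mem_span_pair.1 hv1
    have h0 := congrArg (fun u => b.repr u (e 0)) hv
    have h1 := congrArg (fun u => b.repr u (e 1)) hv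
    simp at h0 h1
    rw [← h0, ← h1, zero_smul, zero_smul, add_zero]
  have hij : ∀ k l : Fin 4, ![0, 0, 1, 1] k ≠ (![0, 0, 1, 1] l : Fin 2) → f (b (e k)) (b (e l)) = 0 := by
    intro k l hkl
    refine hzero _ _ ?_
    rw [he]
    exact fun h' => by
      have := e.injective h'
      subst this
      exact hkl ((show ∀ l : Fin 4, ![0, 0, 1, 1] (![1, 0, 3, 2] l) = (![0, 0, 1, 1] l : Fin 2) by
        decide) l)
  have ho : ∀ u ∈ D 0, ∀ v ∈ D 1, f u v = 0 := by
    intro u hu v hv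
    obtain ⟨a0, a1, rfl⟩ := Submodule.mem_span_pair.1 hu
    obtain ⟨a2, a3, rfl⟩ := Submodule.mem_span_pair.1 hv
    simp [hf.bilinear.add_left, hf.bilinear.smul_left, hf.bilinear.add_right, hf.bilinear.smul_right,
      hij 0 2 (by decide), hij 0 3 (by decide), hij 1 2 (by decide), hij 1 3 (by decide)]
  refine geometric_orth_planes c (nondeg_of_orth hf hD ho) (le_decompositionStabilizer hD fun g hg => ?_)
  obtain ⟨π, hπ⟩ := hperm g hg
  let π' := e.trans (π.trans e.symm)
  have hcommπ : ∀ k, π' (![1, 0, 3, 2] k) = ![1, 0, 3, 2] (π' k) := fun k => by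
    apply e.injective
    rw [← he]
    simp only [π', Equiv.trans_apply, Equiv.apply_symm_apply]
    rw [hτπ g hg π hπ, he]
  have hblocks : ∀ p : Equiv.Perm (Fin 4), (∀ k, p (![1, 0, 3, 2] k) = ![1, 0, 3, 2] (p k)) →
      ∃ s : Equiv.Perm (Fin 2), ∀ k, (![0, 0, 1, 1] (p k) : Fin 2) = s (![0, 0, 1, 1] k) := by
    decide +kernel
  obtain ⟨s, hs⟩ := hblocks π' hcommπ
  have hb : ∀ k, (g : Matrix (Fin 4) (Fin 4) F) *ᵥ b (e k) ∈ D (s (![0, 0, 1, 1] k)) := fun k => by
    obtain ⟨d, hd⟩ := hπ (e k)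
    rw [hd, show π (e k) = e (π' k) by simp [π'], ← hs k]
    exact (D _).smul_mem d (hmemD _)
  refine ⟨s, fun i v hv => ?_⟩
  fin_cases i
  · obtain ⟨a0, a1, rfl⟩ := Submodule.mem_span_pair.1 hv
    rw [Matrix.mulVec_add, Matrix.mulVec_smul, Matrix.mulVec_smul]
    exact (D _).add_mem ((D _).smul_mem _ (hb 0)) ((D _).smul_mem _ (hb 1))
  · obtain ⟨a0, a1, rfl⟩ := Submodule.mem_span_pair.1 hv
    rw [Matrix.mulVec_add, Matrix.mulVec_smul, Matrix.mulVec_smul]
    exact (D _).add_mem ((D _).smul_mem _ (hb 2)) ((D _).smul_mem _ (hb 3))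

/-- Two planes permuted by `H`. -/
theorem geometric_planes_case (c : Ctx f H) (hAH : A ≤ H) (hp : PlanesCase H A) : SGeometric f H := by
  classical
  obtain ⟨D, hD, hHD, hDA, hDN, hidem⟩ := hp
  have hf := c.form
  have hc : IsCompl (D 0) (D 1) :=
    ⟨hD.indep.pairwiseDisjoint (show (0 : Fin 2) ≠ 1 by decide), codisjoint_iff.2 (planes_sup hD)⟩
  let pr : (Fin 4 → F) →ₗ[F] (Fin 4 → F) :=
    (D 0).subtype.comp (Submodule.projectionOnto _ _ hc)
  set π₀ := LinearMap.toMatrix' pr with hπdef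
  have hπ0 : ∀ v ∈ D 0, π₀ *ᵥ v = v := fun v hv => by
    rw [hπdef, LinearMap.toMatrix'_mulVec]
    simp [pr, Submodule.projectionOnto_apply_left hc ⟨v, hv⟩]
  have hπ1 : ∀ v ∈ D 1, π₀ *ᵥ v = 0 := fun v hv => by
    rw [hπdef, LinearMap.toMatrix'_mulVec]
    simp [pr, Submodule.projectionOnto_apply_right hc ⟨v, hv⟩]
  have hext : ∀ {M N : Matrix (Fin 4) (Fin 4) F}, (∀ i, ∀ v ∈ D i, M *ᵥ v = N *ᵥ v) → M = N := by
    intro M N hMN
    refine Matrix.toLin'.injective (LinearMap.ext fun v => ?_)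
    obtain ⟨a, ha, b, hb, rfl⟩ := Submodule.mem_sup.1 ((planes_sup hD).ge (Submodule.mem_top : v ∈ ⊤))
    simp only [Matrix.toLin'_apply, Matrix.mulVec_add, hMN 0 a ha, hMN 1 b hb]
  have hcomm : ∀ B : Matrix (Fin 4) (Fin 4) F, (∀ i, ∀ v ∈ D i, B *ᵥ v ∈ D i) → π₀ * B = B * π₀ :=
    fun B hB => hext fun i v hv => by
      simp only [← Matrix.mulVec_mulVec]
      fin_cases i
      · rw [hπ0 v hv, hπ0 _ (hB 0 v hv)]
      · rw [hπ1 v hv, hπ1 _ (hB 1 v hv), Matrix.mulVec_zero]
  have hcentral : CentralComm A π₀ := ⟨fun x hx => (hcomm _ (hDN x hx)).symm,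
    fun B hB => hcomm B (hDA B hB)⟩
  have hππ : π₀ * π₀ = π₀ := hext fun i v hv => by
    simp only [← Matrix.mulVec_mulVec]
    fin_cases i
    · rw [hπ0 v hv, hπ0 v hv]
    · rw [hπ1 v hv, Matrix.mulVec_zero]
  set π₁ := adj f π₀ with hπ1def
  have hidem' := hidem π₁ (centralComm_adj hf (hAH.trans c.maximal.1.le) hcentral)
    (by rw [hπ1def, ← adj_mul hf, hππ])
  have hne : ∀ i, D i ≠ ⊥ := fun i h0 => by
    have := hD.finrank_eq i
    rw [h0, finrank_bot] at this
    omega
  have hback : adj f π₁ = π₀ := adj_adj hf π₀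
  rcases hidem' 0 with h0 | h0 <;> rcases hidem' 1 with h1 | h1
  · exfalso
    have he : π₁ = 1 := hext fun i v hv => by
      rw [Matrix.one_mulVec]; fin_cases i <;> [exact h0 v hv; exact h1 v hv]
    obtain ⟨w, hw, hw0⟩ := (Submodule.ne_bot_iff _).1 (hne 1)
    rw [he, adj_one hf] at hback
    exact hw0 (by rw [← hπ1 w hw, ← hback, Matrix.one_mulVec])
  · -- orthogonal
    refine geometric_orth_planes c (nondeg_of_orth hf hD fun u hu v hv => ?_) hHD
    rw [← hπ0 u hu, adj_spec hf, ← hπ1def, h1 v hv, zero_right hf]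
  · -- totally isotropic
    refine geometric_ts_planes c hD (fun i u hu v hv => ?_) hHD
    fin_cases i
    · rw [← hπ0 u hu, adj_spec hf, ← hπ1def, h0 v hv, zero_right hf]
    · rw [← h1 v hv, hπ1def, ← adj_spec hf, hπ1 u hu, zero_left hf]
  · exfalso
    have he : π₁ = 0 := hext fun i v hv => by
      rw [Matrix.zero_mulVec]; fin_cases i <;> [exact h0 v hv; exact h1 v hv]
    obtain ⟨w, hw, hw0⟩ := (Submodule.ne_bot_iff _).1 (hne 0)
    rw [he, adj_zero hf] at hback
    exact hw0 (by rw [← hπ0 w hw, ← hback, Matrix.zero_mulVec])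

end Cfsg.Agent.AschbacherFour.Sp
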