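import Cfsg.Agent.Lib.AschbacherFour.Sp.FieldThree
import Cfsg.Agent.Lib.AschbacherFour.Sp.Planes

/-!
A quadratic field normalised by a subgroup of the symplectic group of dimension four.
-/

set_option autoImplicit false

namespace Cfsg.Agent.AschbacherFour.Sp

open Matrix Aschbacher
open scoped MatrixGroups

variable {F : Type*} [Field F] [Fintype F] {f : (Fin 4 → F) → (Fin 4 → F) → F}
  {H A : Subgroup (GL (Fin 4) F)}

/-- A generator of a quadratic field of matrices and its conjugate. -/
theorem exists_generator {K : Subalgebra F (Matrix (Fin 4) (Fin 4) F)}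
    (hK : Geo.IsFieldSubalgebra 2 K) :
    ∃ (k : Matrix (Fin 4) (Fin 4) F) (s t : F), k ∈ K ∧
      (∀ a : F, k ≠ a • (1 : Matrix (Fin 4) (Fin 4) F)) ∧ k * k = s • 1 + t • k ∧
      (∀ x ∈ K, ∃ a b : F, x = a • (1 : Matrix (Fin 4) (Fin 4) F) + b • k) ∧
      ∀ m ∈ K, m * m = s • 1 + t • m → m = k ∨ m = t • 1 - k := by
  classical
  obtain ⟨k, hkK, hkns⟩ : ∃ k ∈ K, ∀ a : F, k ≠ a • (1 : Matrix (Fin 4) (Fin 4) F) := by
    by_contra hcon
    push Not at hcon
    have hbot : K = ⊥ := by
      refine eq_bot_iff.2 fun k hk => ?_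
      obtain ⟨s, rfl⟩ := hcon k hk
      exact Algebra.mem_bot.2 ⟨s, by rw [Algebra.algebraMap_eq_smul_one]⟩
    have := hK.finrank_eq
    rw [hbot, Subalgebra.finrank_bot] at this
    omega
  have hindep : ∀ s t : F, s • (1 : Matrix (Fin 4) (Fin 4) F) + t • k = 0 → s = 0 ∧ t = 0 := by
    intro s t hst
    by_cases ht : t = 0
    · rw [ht, zero_smul, add_zero, smul_eq_zero] at hst
      exact ⟨hst.resolve_right one_ne_zero, ht⟩
    · refine absurd ?_ (hkns (-(t⁻¹ * s)))
      rw [neg_smul, mul_smul, eq_neg_of_add_eq_zero_left hst, smul_neg, neg_neg, smul_smul,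
        inv_mul_cancel₀ ht, one_smul]
  have hspan : ∀ x ∈ K, ∃ s t : F, x = s • (1 : Matrix (Fin 4) (Fin 4) F) + t • k := by
    let m : F × F →ₗ[F] K :=
      { toFun := fun p => ⟨p.1 • (1 : Matrix (Fin 4) (Fin 4) F) + p.2 • k,
          K.add_mem (K.smul_mem K.one_mem _) (K.smul_mem hkK _)⟩
        map_add' := fun p p' => Subtype.ext (by simp [add_smul]; abel)
        map_smul' := fun r p => Subtype.ext (by simp [mul_smul]) }
    have hinj : Function.Injective m := by
      rw [injective_iff_map_eq_zero]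
      intro p hp
      obtain ⟨h1, h2⟩ := hindep _ _ (congrArg Subtype.val hp)
      exact Prod.ext h1 h2
    have hsurj := (LinearMap.injective_iff_surjective_of_finrank_eq_finrank
      (by rw [Module.finrank_prod, Module.finrank_self, hK.finrank_eq])).1 hinj
    intro x hx
    obtain ⟨p, hp⟩ := hsurj ⟨x, hx⟩
    exact ⟨p.1, p.2, (congrArg Subtype.val hp).symm⟩
  obtain ⟨s, t, hkk⟩ := hspan _ (K.mul_mem hkK hkK)
  refine ⟨k, s, t, hkK, hkns, hkk, hspan, fun m hm hmm => ?_⟩
  have hprod : (m - k) * (m + k - t • (1 : Matrix (Fin 4) (Fin 4) F)) = 0 := by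
    simp only [sub_mul, mul_sub, mul_add, Matrix.mul_smul, mul_one, hmm, hkk, hK.comm _ hm _ hkK]
    abel
  by_cases h0 : m - k = 0
  · exact Or.inl (sub_eq_zero.1 h0)
  · obtain ⟨y, hy, hxy⟩ := hK.inv _ (K.sub_mem hm hkK) h0
    refine Or.inr ?_
    have hyx : y * (m - k) = 1 := by rw [hK.comm y hy _ (K.sub_mem hm hkK), hxy]
    have h1 : m + k - t • (1 : Matrix (Fin 4) (Fin 4) F) = 0 := by
      have h2 := congrArg (y * ·) hprod
      simpa only [← mul_assoc, hyx, one_mul, mul_zero] using h2
    rw [eq_sub_iff_add_eq]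
    exact sub_eq_zero.1 h1

/-- The third class. -/
theorem geometric_field (c : Ctx f H) (hirr : Irr H) {K : Subalgebra F (Matrix (Fin 4) (Fin 4) F)}
    (hK : Geo.IsFieldSubalgebra 2 K) (hH : H ≤ Geo.subalgebraNormalizer K)
    (hadj : ∀ k ∈ K, adj f k ∈ K) : SGeometric f H := by
  classical
  have hf := c.form
  obtain ⟨k, s, t, hkK, hkns, hkk, hspan, hroots⟩ := exists_generator hK
  -- conjugates of `k`
  have hconj : ∀ g ∈ H, ((g : Matrix (Fin 4) (Fin 4) F) * k = k * g) ∨
      (g : Matrix (Fin 4) (Fin 4) F) * k = (t • 1 - k) * g := by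
    intro g hg
    have hG : ((g⁻¹ : GL (Fin 4) F) : Matrix (Fin 4) (Fin 4) F) * g = 1 := Units.inv_mul g
    have hm : (g : Matrix (Fin 4) (Fin 4) F) * k * ((g⁻¹ : GL (Fin 4) F) : Matrix (Fin 4) (Fin 4) F) ∈ K :=
      (hH hg k).1 hkK
    rcases hroots _ hm (by
      simp only [mul_assoc]
      rw [← mul_assoc ((g⁻¹ : GL (Fin 4) F) : Matrix (Fin 4) (Fin 4) F) (g : Matrix (Fin 4) (Fin 4) F),
        hG, one_mul, ← mul_assoc k k, hkk, add_mul, Matrix.smul_mul, Matrix.smul_mul, one_mul, mul_add,
        Matrix.mul_smul, Matrix.mul_smul, Units.mul_inv]) with h | h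
    · exact Or.inl (by
        conv_rhs => rw [← h]
        rw [mul_assoc _ _ (g : Matrix (Fin 4) (Fin 4) F), hG, mul_one])
    · exact Or.inr (by
        conv_rhs => rw [← h]
        rw [mul_assoc _ _ (g : Matrix (Fin 4) (Fin 4) F), hG, mul_one])
  have hθ : adj f k = k ∨ adj f k = t • 1 - k := hroots _ (hadj k hkK) (by
    rw [← adj_mul hf, hkk, adj_add hf, adj_smul hf, adj_smul hf, adj_one hf])
  have hnot := not_le_subalgebraNormalizer hf hK
  by_cases hself : adj f k = k
  · -- self-adjoint
    have hsa : Geo.IsSelfAdjointFor f K := by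
      intro x hx u v
      obtain ⟨a, b, rfl⟩ := hspan x hx
      rw [adj_spec hf, adj_add hf, adj_smul hf, adj_smul hf, adj_one hf, hself]
    have hskew : ∀ u v, f (k *ᵥ u) v = -f (k *ᵥ v) u := fun u v => by
      rw [adj_spec hf, hself, hf.skew]
    have hz : ∀ v, f (k *ᵥ v) v = 0 := by
      by_cases hodd : Odd (Fintype.card F)
      · intro v
        exact (mul_eq_zero.1 (show (2 : F) * f (k *ᵥ v) v = 0 by
          linear_combination hskew v v)).resolve_left (two_ne_zero_of_odd hodd)
      · have h2 := c.even_two hodd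
        let D : (Fin 4 → F) → F := fun v => f (k *ᵥ v) v
        have hadd : ∀ u v, D (u + v) = D u + D v := fun u v => by
          simp only [D, Matrix.mulVec_add, hf.bilinear.add_left, hf.bilinear.add_right]
          linear_combination hskew u v
        have hsm : ∀ (r : F) v, D (r • v) = r * r * D v := fun r v => by
          simp only [D, Matrix.mulVec_smul, hf.bilinear.smul_left, hf.bilinear.smul_right]
          ring
        let W : Submodule F (Fin 4 → F) :=
          { carrier := {v | D v = 0}
            zero_mem' := by simp [D, zero_right hf]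
            add_mem' := fun {u v} hu hv => by
              show D (u + v) = 0
              rw [hadd, show D u = 0 from hu, show D v = 0 from hv, add_zero]
            smul_mem' := fun r v hv => by
              show D (r • v) = 0
              rw [hsm, show D v = 0 from hv, mul_zero] }
        rcases irr_iff.1 hirr W (fun g hg v hv => by
          show f (k *ᵥ ((g : Matrix (Fin 4) (Fin 4) F) *ᵥ v)) ((g : Matrix (Fin 4) (Fin 4) F) *ᵥ v) = 0
          have hv' : f (k *ᵥ v) v = 0 := hv
          rcases hconj g hg with h | h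
          · rw [Matrix.mulVec_mulVec, ← h, ← Matrix.mulVec_mulVec, c.iso hg, hv']
          · have h' : k * (g : Matrix (Fin 4) (Fin 4) F) = (g : Matrix (Fin 4) (Fin 4) F) * (t • 1 - k) := by
              rw [mul_sub, Matrix.mul_smul, mul_one, h, sub_mul, Matrix.smul_mul, one_mul, sub_sub_cancel]
            rw [Matrix.mulVec_mulVec, h', ← Matrix.mulVec_mulVec, c.iso hg, Matrix.sub_mulVec,
              Matrix.smul_mulVec, Matrix.one_mulVec, sub_eq_add_neg, hf.bilinear.add_left,
              hf.bilinear.smul_left, hf.alternating, neg_left hf, hv']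
            ring) with h0 | h0
        · exfalso
          have hinj : Function.Injective D := fun u v huv => by
            have hm : u - v ∈ W := by
              show D (u - v) = 0
              have h1 := hadd (u - v) v
              rw [sub_add_cancel, huv] at h1
              linear_combination -h1
            rwa [h0, Submodule.mem_bot, sub_eq_zero] at hm
          have h1 := Fintype.card_le_of_injective _ hinj
          rw [Fintype.card_fun, Fintype.card_fin] at h1
          exact absurd h1 (not_le.2 (lt_of_eq_of_lt (pow_one _).symm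
            (Nat.pow_lt_pow_right Fintype.one_lt_card (by norm_num))))
        · exact fun v => h0.ge (Submodule.mem_top : v ∈ ⊤)
    refine Or.inr <| Or.inr <| Or.inr <| Or.inl ⟨K, hK, hsa, fun x hx v => ?_, c.eq_inf hH hnot⟩
    obtain ⟨a, b, rfl⟩ := hspan x hx
    rw [Matrix.add_mulVec, Matrix.smul_mulVec, Matrix.smul_mulVec, Matrix.one_mulVec,
      hf.bilinear.add_left, hf.bilinear.smul_left, hf.bilinear.smul_left, hf.alternating, hz, mul_zero,
      mul_zero, add_zero]
  have hθk := hθ.resolve_left hself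
  by_cases hodd : Odd (Fintype.card F)
  swap
  · -- a quadratic form of minus type
    have h2 := c.even_two hodd
    have h2m : ∀ M : Matrix (Fin 4) (Fin 4) F, -M = M := fun M => by
      rw [← sub_eq_zero, sub_eq_add_neg, ← neg_add, ← two_smul F M, h2, zero_smul, neg_zero]
    have ht : t ≠ 0 := fun h0 => hself (by rw [hθk, h0, zero_smul, zero_sub, h2m])
    let Q : (Fin 4 → F) → F := fun v => t⁻¹ * f (k *ᵥ v) v
    obtain ⟨hQn, hpol⟩ := quad_of_polar hf (Q := Q)
      (fun a v => by
        simp only [Q, Matrix.mulVec_smul, hf.bilinear.smul_left, hf.bilinear.smul_right]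
        ring)
      (fun u v => by
        have h1 : f (k *ᵥ u) v = t * f u v - f u (k *ᵥ v) := by
          rw [adj_spec hf, hθk, Matrix.sub_mulVec, Matrix.smul_mulVec, Matrix.one_mulVec, sub_eq_add_neg,
            hf.bilinear.add_right, hf.bilinear.smul_right, neg_right hf]
          ring
        simp only [Q, Matrix.mulVec_add, hf.bilinear.add_left, hf.bilinear.add_right, h1,
          hf.skew (k *ᵥ v) u]
        have ht' : t⁻¹ * t = 1 := inv_mul_cancel₀ ht
        linear_combination (f u v) * ht' - (t⁻¹ * f u (k *ᵥ v)) * h2)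
    refine geometric_quad c hodd hQn hpol fun g hg => ⟨1, fun v => ?_⟩
    rw [Units.val_one, one_mul]
    simp only [Q]
    congr 1
    rcases hconj g hg with h | h
    · rw [Matrix.mulVec_mulVec, ← h, ← Matrix.mulVec_mulVec, c.iso hg]
    · have h' : k * (g : Matrix (Fin 4) (Fin 4) F) = (g : Matrix (Fin 4) (Fin 4) F) * (t • 1 - k) := by
        rw [mul_sub, Matrix.mul_smul, mul_one, h, sub_mul, Matrix.smul_mul, one_mul, sub_sub_cancel]
      rw [Matrix.mulVec_mulVec, h', ← Matrix.mulVec_mulVec, c.iso hg, Matrix.sub_mulVec,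
        Matrix.smul_mulVec, Matrix.one_mulVec, sub_eq_add_neg, hf.bilinear.add_left,
        hf.bilinear.smul_left, hf.alternating, neg_left hf]
      linear_combination (-(f (k *ᵥ v) v)) * h2
  rcases odd_cases hodd with hq | h5
  swap
  · refine Or.inr <| Or.inr <| Or.inr <| Or.inr <| Or.inl ⟨hodd, h5, K, hK,
      fun x hx => ⟨adj f x, hadj x hx, adj_spec hf x⟩, fun hsa => hself ?_, c.eq_inf hH hnot⟩
    exact adj_eq hf (hsa k hkK)
  -- three elements: a complex structure
  have h2 : (2 : F) ≠ 0 := two_ne_zero_of_odd hodd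
  set r := (2 : F)⁻¹ * t with hr
  have hrt : t = r + r := by
    rw [hr]; field_simp; ring
  set J := k - r • (1 : Matrix (Fin 4) (Fin 4) F) with hJdef
  have hJK : J ∈ K := K.sub_mem hkK (K.smul_mem K.one_mem r)
  have hJsq : J * J = (s + r * r) • (1 : Matrix (Fin 4) (Fin 4) F) := by
    rw [hJdef]
    simp only [sub_mul, mul_sub, Matrix.smul_mul, Matrix.mul_smul, one_mul, mul_one, hkk, smul_smul,
      hrt]
    module
  have hd : s + r * r = -1 := by
    have hJ0 : ∀ a : F, J ≠ a • 1 := fun a h => hkns (a + r) (by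
      rw [add_smul, ← h, hJdef, sub_add_cancel])
    have hnz : s + r * r ≠ 0 := fun h0 => by
      rw [h0, zero_smul] at hJsq
      obtain ⟨y, hy, hxy⟩ := hK.inv J hJK (fun h => hJ0 0 (by rw [h, zero_smul]))
      refine hJ0 0 ?_
      rw [zero_smul, ← one_mul J, ← hxy, hK.comm J hJK y hy, mul_assoc, hJsq, mul_zero]
    have h1 := FiniteField.pow_card_sub_one_eq_one _ hnz
    rw [hq] at h1
    refine (sq_eq_one_iff.1 h1).resolve_left fun h => ?_
    rw [h, one_smul] at hJsq
    by_cases hJ1 : J - 1 = 0
    · exact hJ0 1 (by rw [one_smul]; exact sub_eq_zero.1 hJ1)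
    · obtain ⟨y, hy, hxy⟩ := hK.inv _ (K.sub_mem hJK K.one_mem) hJ1
      refine hJ0 (-1) ?_
      have hyx : y * (J - 1) = 1 := by rw [hK.comm y hy _ (K.sub_mem hJK K.one_mem), hxy]
      have h3 : J + 1 = 0 := by
        have h4 := congrArg (y * ·)
          (show (J - 1) * (J + 1) = 0 by
            rw [show (J - 1) * (J + 1) = J * J - 1 by noncomm_ring, hJsq, sub_self])
        simpa only [← mul_assoc, hyx, one_mul, mul_zero] using h4
      rw [neg_one_smul]
      exact eq_neg_of_add_eq_zero_left h3
  refine field_three c hq (J := J) (by rw [hJsq, hd, neg_one_smul]) ?_ fun g hg => ?_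
  · rw [hJdef, sub_eq_add_neg, adj_add hf, ← neg_smul, adj_smul hf, adj_one hf, hθk, hrt]
    module
  · rcases hconj g hg with h | h
    · left
      rw [hJdef, mul_sub, sub_mul, h, Matrix.mul_smul, Matrix.smul_mul, mul_one, one_mul]
    · right
      rw [hJdef, mul_sub, sub_mul, h, Matrix.mul_smul, Matrix.smul_mul, mul_one, one_mul, sub_mul,
        Matrix.smul_mul, one_mul, hrt]
      module

/-- The field found in the centre of a commutant. -/
theorem geometric_field_case (c : Ctx f H) (hirr : Irr H) (hAH : A ≤ H) (hc : FieldCase H A) :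
    SGeometric f H := by
  obtain ⟨K, hK, hH, hmem⟩ := hc
  refine geometric_field c hirr hK hH fun k hk => ?_
  rw [hmem] at hk ⊢
  exact ⟨centralComm_adj c.form (hAH.trans c.maximal.1.le) hk.1, by rw [← adj_pow c.form, hk.2]⟩

/-- An irreducible subgroup is absolutely irreducible or geometric. -/
theorem absIrr_or_geometric (c : Ctx f H) (hirr : Irr H) : AbsIrr H ∨ SGeometric f H :=
  (irr_cases (fun _ hh _ hx => H.mul_mem (H.mul_mem hh hx) (H.inv_mem hh)) hirr).imp_right
    fun hc => geometric_field_case c hirr le_rfl hc.2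

end Cfsg.Agent.AschbacherFour.Sp
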