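import Cfsg.Agent.Lib.AschbacherFour.Sp.Pauli

/-!
Over three elements: the normaliser in `Sp₄` of a complex structure that is not self-adjoint normalises a
group of symplectic type.
-/

set_option autoImplicit false

namespace Cfsg.Agent.AschbacherFour.Sp

open Matrix Aschbacher
open scoped MatrixGroups commutatorElement

namespace Three

local notation "M₃" => Matrix (Fin 4) (Fin 4) (ZMod 3)

/-- The standard alternating form. -/
def om₃ : M₃ := !![0, 1, 0, 0; -1, 0, 0, 0; 0, 0, 0, 1; 0, 0, -1, 0]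

/-- The complex structure. -/
def cplx : M₃ := !![0, -1, 0, 0; 1, 0, 0, 0; 0, 0, 0, -1; 0, 0, 1, 0]

/-- Five pairwise anticommuting self-adjoint involutions. -/
def gam : Fin 5 → M₃ :=
  ![!![1, 0, 0, 0; 0, 1, 0, 0; 0, 0, -1, 0; 0, 0, 0, -1],
    !![0, 0, 1, 0; 0, 0, 0, 1; 1, 0, 0, 0; 0, 1, 0, 0],
    !![0, 0, 0, 1; 0, 0, -1, 0; 0, -1, 0, 0; 1, 0, 0, 0],
    !![0, 0, -1, -1; 0, 0, -1, 1; 1, 1, 0, 0; 1, -1, 0, 0],
    !![0, 0, -1, 1; 0, 0, 1, 1; 1, -1, 0, 0; -1, -1, 0, 0]]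

theorem om₃_sq : om₃ * om₃ = -1 := by decide +kernel

theorem gam_spec : ∀ k, gam k * gam k = 1 ∧ om₃ * gam k = (gam k)ᵀ * om₃ ∧
    (gam k * cplx = cplx * gam k ∨ gam k * cplx = -(cplx * gam k)) ∧ gam k ≠ 1 ∧ gam k ≠ -1 := by
  decide +kernel

theorem gam_anti : ∀ k l, k ≠ l → gam k * gam l = -(gam l * gam k) := by decide +kernel

/-- Self-adjoint matrices commuting with the complex structure. -/
def cmat (a d x y : ZMod 3) : M₃ := !![a, 0, x, y; 0, a, -y, x; x, -y, d, 0; y, x, 0, d]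

/-- Self-adjoint matrices anticommuting with the complex structure. -/
def amat (r s : ZMod 3) : M₃ := !![0, 0, -r, -s; 0, 0, -s, r; r, s, 0, 0; s, -r, 0, 0]

set_option synthInstance.maxSize 1024 in
set_option synthInstance.maxHeartbeats 100000 in
theorem commuting_cases : ∀ a d x y : ZMod 3, cmat a d x y * cmat a d x y = 1 →
    cmat a d x y ≠ 1 → cmat a d x y ≠ -1 → ∃ k, cmat a d x y = gam k ∨ cmat a d x y = -gam k := by
  decide +kernel

theorem anticommuting_cases : ∀ r s : ZMod 3,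
    amat r s * amat r s = 1 → ∃ k, amat r s = gam k ∨ amat r s = -gam k := by
  decide +kernel

theorem eq_zero_of_eq_neg {a : ZMod 3} : a = -a → a = 0 := by
  revert a; decide

theorem eq_zero_of_neg_eq {a : ZMod 3} (h : -a = a) : a = 0 := eq_zero_of_eq_neg h.symm

set_option maxHeartbeats 800000 in
/-- Self-adjoint involutions normalising the complex structure. -/
theorem classify {A : M₃} (hAA : A * A = 1) (hadj : om₃ * A = Aᵀ * om₃)
    (hJ : A * cplx = cplx * A ∨ A * cplx = -(cplx * A)) (h1 : A ≠ 1) (h2 : A ≠ -1) :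
    ∃ k, A = gam k ∨ A = -gam k := by
  have e : ∀ i j, (om₃ * A) i j = (Aᵀ * om₃) i j := fun i j => by rw [hadj]
  simp [Fin.forall_fin_succ, om₃, Matrix.mul_apply, Matrix.vecMul, dotProduct, Fin.sum_univ_succ] at e
  rcases hJ with hJ | hJ
  · have c : ∀ i j, (A * cplx) i j = (cplx * A) i j := fun i j => by rw [hJ]
    simp [Fin.forall_fin_succ, cplx, Matrix.mul_apply, Matrix.vecMul, dotProduct, Fin.sum_univ_succ] at c
    have hA : A = cmat (A 0 0) (A 2 2) (A 0 2) (A 0 3) := by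
      ext i j
      fin_cases i <;> fin_cases j <;> simp [cmat, amat] <;>
        grind [eq_zero_of_eq_neg, eq_zero_of_neg_eq]
    rw [hA] at hAA h1 h2 ⊢
    exact commuting_cases _ _ _ _ hAA h1 h2
  · have c : ∀ i j, (A * cplx) i j = (-(cplx * A)) i j := fun i j => by rw [hJ]
    simp [Fin.forall_fin_succ, cplx, Matrix.mul_apply, Matrix.vecMul, dotProduct, Fin.sum_univ_succ] at c
    have hA : A = amat (A 2 0) (A 3 0) := by
      ext i j
      fin_cases i <;> fin_cases j <;> simp [cmat, amat] <;>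
        grind [eq_zero_of_eq_neg, eq_zero_of_neg_eq]
    rw [hA] at hAA ⊢
    exact anticommuting_cases _ _ hAA

set_option maxHeartbeats 800000 in
/-- The five involutions have scalar common centraliser. -/
theorem centraliser {A : M₃} (h : ∀ k, gam k * A = A * gam k) : A = A 0 0 • 1 := by
  have c0 : ∀ i j, (gam 0 * A) i j = (A * gam 0) i j := fun i j => by rw [h]
  have c1 : ∀ i j, (gam 1 * A) i j = (A * gam 1) i j := fun i j => by rw [h]
  have c2 : ∀ i j, (gam 2 * A) i j = (A * gam 2) i j := fun i j => by rw [h]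
  have c3 : ∀ i j, (gam 3 * A) i j = (A * gam 3) i j := fun i j => by rw [h]
  simp [Fin.forall_fin_succ, gam, Matrix.mul_apply, Matrix.vecMul, dotProduct, Fin.sum_univ_succ] at c0 c1 c2 c3
  ext i j
  fin_cases i <;> fin_cases j <;> simp [cmat, amat] <;>
        grind [eq_zero_of_eq_neg, eq_zero_of_neg_eq]

end Three

variable {F : Type*} [Field F] [Fintype F] {f : (Fin 4 → F) → (Fin 4 → F) → F}
  {H : Subgroup (GL (Fin 4) F)}

/-- A frame of vectors adapted to a skew-adjoint complex structure. -/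
theorem exists_cplx_frame (hf : Geo.IsSymplecticForm f) (h2 : (2 : F) ≠ 0)
    (hq : Fintype.card F = 3) {J : Matrix (Fin 4) (Fin 4) F} (hJJ : J * J = -1)
    (hJa : ∀ u v, f (J *ᵥ u) v = -f u (J *ᵥ v)) :
    ∃ u w, f u (J *ᵥ u) = 1 ∧ f w (J *ᵥ w) = 1 ∧ f u w = 0 ∧ f u (J *ᵥ w) = 0 := by
  have hJv : ∀ v, J *ᵥ (J *ᵥ v) = -v := fun v => by
    rw [Matrix.mulVec_mulVec, hJJ, Matrix.neg_mulVec, Matrix.one_mulVec]
  have hsym : ∀ u v, f v (J *ᵥ u) = f u (J *ᵥ v) := fun u v => by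
    rw [hf.skew, hJa, neg_neg]
  have hfix : ∀ w, f w (J *ᵥ w) ≠ 0 → ∃ w', (w' = w ∨ w' = w + J *ᵥ w) ∧ f w' (J *ᵥ w') = 1 := by
    intro w hw
    have h1 := FiniteField.pow_card_sub_one_eq_one _ hw
    rw [hq] at h1
    rcases sq_eq_one_iff.1 h1 with h | h
    · exact ⟨w, Or.inl rfl, h⟩
    · refine ⟨_, Or.inr rfl, ?_⟩
      have h3 : (3 : F) = 0 := by have := Nat.cast_card_eq_zero F; rw [hq] at this; exact_mod_cast this
      rw [Matrix.mulVec_add, hJv, hf.bilinear.add_left, hf.bilinear.add_right, hf.bilinear.add_right,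
        neg_right hf, neg_right hf, hf.alternating, hf.alternating, hf.skew (J *ᵥ w) w, h]
      linear_combination -h3
  obtain ⟨x, hx⟩ : ∃ x, f x (J *ᵥ x) ≠ 0 := by
    by_contra hcon
    push Not at hcon
    obtain ⟨y, hy⟩ := (hf.nondegenerate (J *ᵥ (Pi.single 0 1)) fun h0 => by
      have := hJv (Pi.single 0 1)
      rw [h0, Matrix.mulVec_zero] at this
      simpa using congrFun this 0).1
    have h1 := hcon (y + Pi.single 0 1)
    rw [Matrix.mulVec_add, hf.bilinear.add_left, hf.bilinear.add_right, hf.bilinear.add_right, hcon,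
      hcon, hsym y] at h1
    exact hy ((mul_eq_zero.1 (show (2 : F) * f y (J *ᵥ Pi.single 0 1) = 0 by
      linear_combination h1)).resolve_left h2)
  obtain ⟨u, -, hu⟩ := hfix x hx
  obtain ⟨w, hw1, hw2, hw⟩ : ∃ w, f u w = 0 ∧ f u (J *ᵥ w) = 0 ∧ f w (J *ᵥ w) ≠ 0 := by
    by_contra hcon
    push Not at hcon
    let L : (Fin 4 → F) →ₗ[F] F × F :=
      (rightMap hf u).prod ((rightMap hf u).comp (Matrix.toLin' J))
    have hker : LinearMap.ker L ≠ ⊥ := by
      intro h'
      have h1 := LinearMap.finrank_le_finrank_of_injective (LinearMap.ker_eq_bot.1 h')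
      simp [Module.finrank_fintype_fun_eq_card] at h1
    obtain ⟨z, hz, hz0⟩ := (Submodule.ne_bot_iff _).1 hker
    have hz' : L z = 0 := hz
    have hz1 : f u z = 0 := congrArg Prod.fst hz'
    have hz2 : f u (J *ᵥ z) = 0 := by simpa [L, rightMap] using congrArg Prod.snd hz'
    obtain ⟨y, hy⟩ := (hf.nondegenerate (J *ᵥ z) fun h0 => hz0 (by
      have := hJv z
      rw [h0, Matrix.mulVec_zero] at this
      exact neg_eq_zero.1 this.symm)).1
    have hju : f (J *ᵥ u) u = -1 := by rw [hf.skew, hu]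
    set y' := y + (-f u (J *ᵥ y)) • u + (f u y * -1) • (J *ᵥ u) with hy'
    have e1 : f u y' = 0 := by
      simp [hy', hf.bilinear.add_right, hf.bilinear.smul_right, hf.alternating, hu, neg_right hf]
    have e2 : f u (J *ᵥ y') = 0 := by
      simp [hy', Matrix.mulVec_add, Matrix.mulVec_smul, Matrix.mulVec_neg, hJv, hf.bilinear.add_right,
        hf.bilinear.smul_right, neg_right hf, hf.alternating, hu]
    have e3 : f y' (J *ᵥ z) = f y (J *ᵥ z) := by
      have h5 : f (J *ᵥ u) (J *ᵥ z) = 0 := by rw [hJa, hJv, neg_right hf, neg_neg, hz1]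
      simp [hy', hf.bilinear.add_left, hf.bilinear.smul_left, neg_left hf, hz2, h5]
    have h6 := hcon (y' + z) (by rw [hf.bilinear.add_right, e1, hz1, add_zero])
      (by rw [Matrix.mulVec_add, hf.bilinear.add_right, e2, hz2, add_zero])
    rw [Matrix.mulVec_add, hf.bilinear.add_left, hf.bilinear.add_right, hf.bilinear.add_right,
      hcon y' e1 e2, hcon z hz1 hz2, hsym y' z, e3] at h6
    exact hy ((mul_eq_zero.1 (show (2 : F) * f y (J *ᵥ z) = 0 by linear_combination h6)).resolve_left h2)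
  obtain ⟨w', hw', hww⟩ := hfix w hw
  refine ⟨u, w', hu, hww, ?_, ?_⟩ <;> rcases hw' with rfl | rfl
  · exact hw1
  · rw [hf.bilinear.add_right, hw1, hw2, add_zero]
  · exact hw2
  · rw [Matrix.mulVec_add, hJv, hf.bilinear.add_right, neg_right hf, hw1, hw2, neg_zero, add_zero]

open Three in
/-- A normalised skew-adjoint complex structure over three elements. -/
theorem field_three (c : Ctx f H) (hq : Fintype.card F = 3) {J : Matrix (Fin 4) (Fin 4) F}
    (hJJ : J * J = -1) (hJa : adj f J = -J)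
    (hHJ : ∀ g ∈ H, (g : Matrix (Fin 4) (Fin 4) F) * J = J * g ∨
      (g : Matrix (Fin 4) (Fin 4) F) * J = -(J * g)) : SGeometric f H := by
  classical
  have hf := c.form
  have h2 : (2 : F) ≠ 0 := two_ne_zero_of_odd (by rw [hq]; decide)
  have hJa' : ∀ u v, f (J *ᵥ u) v = -f u (J *ᵥ v) := fun u v => by
    rw [adj_spec hf, hJa, Matrix.neg_mulVec, neg_right hf]
  obtain ⟨u, w, hu, hw, huw, hujw⟩ := exists_cplx_frame hf h2 hq hJJ hJa'
  haveI : Fact (Nat.Prime 3) := ⟨Nat.prime_three⟩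
  haveI : CharP F 3 := by
    obtain ⟨p, hp⟩ := CharP.exists F
    obtain ⟨e, hpp, hc⟩ := FiniteField.card F p
    rw [hq] at hc
    obtain rfl : 3 = p := by
      have := (Nat.prime_three.pow_eq_iff (a := p) (k := (e : ℕ))).1 hc.symm
      exact this.1.symm
    exact hp
  let φ : ZMod 3 →+* F := ZMod.castHom dvd_rfl F
  have hφ : Function.Bijective φ := (Fintype.bijective_iff_injective_and_card φ).2
    ⟨φ.injective, by rw [ZMod.card, hq]⟩
  let v : Fin 4 → (Fin 4 → F) := ![u, J *ᵥ u, w, J *ᵥ w]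
  have hwu : f w u = 0 := by rw [hf.skew, huw, neg_zero]
  have hjuw : f (J *ᵥ u) w = 0 := by rw [hJa', hujw, neg_zero]
  have hjj : f (J *ᵥ u) (J *ᵥ w) = 0 := by
    rw [hJa', Matrix.mulVec_mulVec, hJJ, Matrix.neg_mulVec, Matrix.one_mulVec, neg_right hf, huw,
      neg_zero, neg_zero]
  have hgram : ∀ i j, f (v i) (v j) = φ (om₃ i j) := by
    intro i j
    fin_cases i <;> fin_cases j <;>
      simp [v, om₃, hu, hw, huw, hujw, hwu, hjuw, hjj, hf.alternating, hf.skew (J *ᵥ u) u,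
        hf.skew (J *ᵥ w) w, hf.skew w (J *ᵥ u), hf.skew (J *ᵥ w) u, hf.skew (J *ᵥ w) (J *ᵥ u)]
  obtain ⟨bs, hbs⟩ := exists_basis hf (v := v) ![1, 0, 3, 2]
    (fun i j hij => by
      rw [hgram]
      fin_cases i <;> fin_cases j <;> first | exact absurd rfl hij | simp [om₃])
    (fun i => by rw [hgram]; fin_cases i <;> simp [om₃])
  let P : Matrix (Fin 4) (Fin 4) F := LinearMap.toMatrix' bs.equivFun.symm.toLinearMap
  let P' : Matrix (Fin 4) (Fin 4) F := LinearMap.toMatrix' bs.equivFun.toLinearMap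
  have hPP : P * P' = 1 := by simp [P, P', ← LinearMap.toMatrix'_comp]
  have hPP' : P' * P = 1 := by simp [P, P', ← LinearMap.toMatrix'_comp]
  have hPv : ∀ i, P *ᵥ Pi.single i 1 = v i := fun i => by
    rw [LinearMap.toMatrix'_mulVec, LinearEquiv.coe_coe, Module.Basis.equivFun_symm_apply]
    simp [Pi.single_apply, hbs]
  let π : Matrix (Fin 4) (Fin 4) (ZMod 3) →+* Matrix (Fin 4) (Fin 4) F :=
    { toFun := fun A => P * φ.mapMatrix A * P'
      map_one' := by simp [hPP]
      map_mul' := fun A B => by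
        simp only [map_mul, mul_assoc]
        rw [← mul_assoc P' P, hPP', one_mul]
      map_zero' := by simp
      map_add' := fun A B => by simp only [map_add, mul_add, add_mul] }
  have hπ : ∀ A, π A = P * φ.mapMatrix A * P' := fun _ => rfl
  have hπs : Function.Surjective π := fun X => by
    choose ψ hψ using hφ.2
    refine ⟨(P' * X * P).map ψ, ?_⟩
    have : φ.mapMatrix ((P' * X * P).map ψ) = P' * X * P := by
      ext i j; simp [hψ]
    rw [hπ, this, ← mul_assoc, ← mul_assoc, hPP, one_mul, mul_assoc, hPP, mul_one]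
  have hπi : Function.Injective π := fun A B h => by
    have h1 := congrArg (fun X => P' * X * P) h
    simp only [hπ, ← mul_assoc, hPP', one_mul] at h1
    rw [mul_assoc, hPP', mul_one, mul_assoc, hPP', mul_one] at h1
    exact Matrix.map_injective hφ.1 h1
  have hform : ∀ x y : Fin 4 → F, f (P *ᵥ x) (P *ᵥ y) = x ⬝ᵥ φ.mapMatrix om₃ *ᵥ y := by
    intro x y
    rw [form_eq_gram hf, Matrix.mulVec_mulVec, ← Matrix.vecMul_transpose, ← Matrix.dotProduct_mulVec,
      Matrix.mulVec_mulVec]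
    congr 2
    ext i j
    show _ = φ (om₃ i j)
    rw [← hgram, form_eq_gram hf, ← hPv, ← hPv, Matrix.mulVec_mulVec, ← Matrix.vecMul_transpose,
      ← Matrix.dotProduct_mulVec, Matrix.mulVec_mulVec]
    simp [mul_assoc]
  have hadj : ∀ A, adj f (π A) = π (-(om₃ * Aᵀ * om₃)) := fun A => adj_eq hf fun x y => by
    have hΩ : om₃ * (-(om₃ * Aᵀ * om₃)) = Aᵀ * om₃ := by
      rw [mul_neg, ← mul_assoc, ← mul_assoc,
        om₃_sq, neg_one_mul, neg_mul, neg_neg]
    have hTΩ : φ.mapMatrix om₃ * φ.mapMatrix (-(om₃ * Aᵀ * om₃)) =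
        (φ.mapMatrix A)ᵀ * φ.mapMatrix om₃ := by
      rw [← map_mul, hΩ, map_mul]
      rfl
    obtain ⟨x, rfl⟩ : ∃ x', P *ᵥ x' = x := ⟨P' *ᵥ x, by rw [Matrix.mulVec_mulVec, hPP, Matrix.one_mulVec]⟩
    obtain ⟨y, rfl⟩ : ∃ y', P *ᵥ y' = y := ⟨P' *ᵥ y, by rw [Matrix.mulVec_mulVec, hPP, Matrix.one_mulVec]⟩
    rw [mul_assoc om₃ Aᵀ om₃] at hTΩ
    simp only [hπ, Matrix.mulVec_mulVec, mul_assoc, hPP', mul_one]
    rw [← Matrix.mulVec_mulVec, ← Matrix.mulVec_mulVec, hform, hform, Matrix.mulVec_mulVec y, hTΩ,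
      ← Matrix.vecMul_transpose, ← Matrix.dotProduct_mulVec, Matrix.mulVec_mulVec]
  have hJπ : π cplx = J := by
    have h1 : P * φ.mapMatrix cplx = J * P := Matrix.ext_of_mulVec_single fun i => by
      rw [← Matrix.mulVec_mulVec, ← Matrix.mulVec_mulVec, hPv]
      rw [show φ.mapMatrix cplx *ᵥ Pi.single i 1 = fun k => φ (cplx k i) by
        funext k; simp, LinearMap.toMatrix'_mulVec, LinearEquiv.coe_coe,
        Module.Basis.equivFun_symm_apply]
      fin_cases i <;>
        simp [Fin.sum_univ_four, cplx, v, hbs, Matrix.mulVec_mulVec, hJJ, Matrix.neg_mulVec]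
    rw [hπ, h1, mul_assoc, hPP, mul_one]
  have hfix : ∀ A, adj f (π A) = π A ↔ om₃ * A = Aᵀ * om₃ := fun A => by
    rw [hadj, hπi.eq_iff]
    constructor <;> intro h
    · conv_lhs => rw [← h]
      rw [mul_neg, ← mul_assoc, ← mul_assoc, om₃_sq, neg_one_mul,
        neg_mul, neg_neg]
    · rw [mul_assoc, ← h, ← mul_assoc, om₃_sq, neg_one_mul, neg_neg]
  -- the generators
  let S : Set (GL (Fin 4) F) := {x | adj f (x : Matrix (Fin 4) (Fin 4) F) = x ∧
    (x : Matrix (Fin 4) (Fin 4) F) * x = 1 ∧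
    ((x : Matrix (Fin 4) (Fin 4) F) * J = J * x ∨ (x : Matrix (Fin 4) (Fin 4) F) * J = -(J * x)) ∧
    (x : Matrix (Fin 4) (Fin 4) F) ≠ 1 ∧ (x : Matrix (Fin 4) (Fin 4) F) ≠ -1}
  have hS : ∀ x ∈ S, ∃ k, (x : Matrix (Fin 4) (Fin 4) F) = π (gam k) ∨
      (x : Matrix (Fin 4) (Fin 4) F) = -π (gam k) := by
    rintro x ⟨hxa, hxx, hxJ, hx1, hx2⟩
    obtain ⟨A, hA⟩ := hπs (x : Matrix (Fin 4) (Fin 4) F)
    rw [← hA] at hxa hxx hxJ hx1 hx2 ⊢
    rw [← map_mul, ← map_one π, hπi.eq_iff] at hxx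
    rw [← hJπ, ← map_mul, ← map_mul, ← map_neg, hπi.eq_iff, hπi.eq_iff] at hxJ
    obtain ⟨k, hk⟩ := Three.classify hxx ((hfix A).1 hxa) hxJ (fun h => hx1 (by rw [h, map_one]))
      fun h => hx2 (by rw [h, map_neg, map_one])
    exact ⟨k, hk.imp (fun h => by rw [h]) fun h => by rw [h, map_neg]⟩
  have hgS : ∀ k, ∃ x ∈ S, (x : Matrix (Fin 4) (Fin 4) F) = π (gam k) := by
    intro k
    obtain ⟨e1, e2, e3, e4, e5⟩ := gam_spec k
    refine ⟨⟨π (gam k), π (gam k), by rw [← map_mul, e1, map_one], by rw [← map_mul, e1, map_one]⟩,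
      ⟨(hfix _).2 e2, ?_, ?_, ?_, ?_⟩, rfl⟩
    · show π (gam k) * π (gam k) = 1
      rw [← map_mul, e1, map_one]
    · show π (gam k) * J = J * π (gam k) ∨ π (gam k) * J = -(J * π (gam k))
      rw [← hJπ, ← map_mul, ← map_mul, ← map_neg, hπi.eq_iff, hπi.eq_iff]
      exact e3
    · exact fun h => e4 (hπi (h.trans (map_one π).symm))
    · exact fun h => e5 (hπi (h.trans (by rw [map_neg, map_one])))
  have hSiso : ∀ x ∈ S, x ∈ isom f := by
    rintro x ⟨hxa, hxx, -⟩ a b
    show f ((x : Matrix (Fin 4) (Fin 4) F) *ᵥ a) ((x : Matrix (Fin 4) (Fin 4) F) *ᵥ b) = f a b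
    rw [adj_spec hf, hxa, Matrix.mulVec_mulVec, hxx, Matrix.one_mulVec]
  set R := Subgroup.closure S with hRdef
  have hRf : R ≤ isom f := (Subgroup.closure_le _).2 hSiso
  have hpair : ∀ x ∈ S, ∀ y ∈ S, ∃ ε : F, (ε = 1 ∨ ε = -1) ∧
      (x : Matrix (Fin 4) (Fin 4) F) * y = ε • ((y : Matrix (Fin 4) (Fin 4) F) * x) := by
    intro x hx y hy
    obtain ⟨k, hk⟩ := hS x hx
    obtain ⟨l, hl⟩ := hS y hy
    by_cases hkl : k = l
    · subst hkl
      refine ⟨1, Or.inl rfl, ?_⟩
      rcases hk with hk | hk <;> rcases hl with hl | hl <;> rw [hk, hl] <;> simp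
    · refine ⟨-1, Or.inr rfl, ?_⟩
      have h' : π (gam k) * π (gam l) = -(π (gam l) * π (gam k)) := by
        rw [← map_mul, ← map_mul, ← map_neg, gam_anti k l hkl]
      rcases hk with hk | hk <;> rcases hl with hl | hl <;> rw [hk, hl] <;> simp [h']
  have hcomm := commutator_closure_le_scalars (S := S) (by
    intro x hx y hy
    obtain ⟨ε, hε, hxy⟩ := hpair x hx y hy
    refine mem_scalars_of_smul_one (c := ε) ?_
    rw [show x * y * x⁻¹ * y⁻¹ = x * y * (y * x)⁻¹ by group, Units.val_mul, Units.val_mul, hxy,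
      Matrix.smul_mul, ← Units.val_mul y x, Units.mul_inv])
  have hRcomm : ∀ x ∈ R, ∀ y ∈ R, ∃ a : F,
      (x : Matrix (Fin 4) (Fin 4) F) * y = a • ((y : Matrix (Fin 4) (Fin 4) F) * x) := by
    intro x hx y hy
    obtain ⟨a, ha⟩ := (Geo.mem_scalars_iff _).1 (hcomm (Subgroup.commutator_mem_commutator hx hy))
    refine ⟨a, ?_⟩
    have h1 := congrArg Units.val (show x * y = ⁅x, y⁆ * (y * x) by rw [commutatorElement_def]; group)
    simp only [Units.val_mul] at h1
    rw [h1, ha, Matrix.smul_mul, one_mul]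
  have hR : SymType R := by
    refine ⟨fun x hx => det_eq_one_of_iso hf (hRf hx), fun M hM => ?_, hRcomm, 2, Nat.prime_two, ?_⟩
    · obtain ⟨A, rfl⟩ := hπs M
      refine ⟨φ (A 0 0), ?_⟩
      have hcen : A = A 0 0 • 1 := centraliser fun k => hπi (by
        obtain ⟨x, hx, hxk⟩ := hgS k
        rw [map_mul, map_mul, ← hxk]
        exact hM x (Subgroup.subset_closure hx))
      conv_lhs => rw [hcen]
      rw [hπ, show φ.mapMatrix (A 0 0 • (1 : Matrix (Fin 4) (Fin 4) (ZMod 3))) =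
          φ (A 0 0) • (1 : Matrix (Fin 4) (Fin 4) F) by
        ext i j; simp [Matrix.one_apply, apply_ite φ],
        Matrix.mul_smul, mul_one, Matrix.smul_mul, hPP]
    · intro x hx
      induction hx using Subgroup.closure_induction with
      | mem x hx => exact ⟨1, by rw [pow_two, hx.2.1, one_smul]⟩
      | one => exact ⟨1, by simp⟩
      | mul x y hx hy ihx ihy =>
        obtain ⟨a, ha⟩ := ihx
        obtain ⟨b, hb⟩ := ihy
        obtain ⟨ε, hε⟩ := hRcomm y hy x hx
        rw [pow_two] at ha hb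
        refine ⟨ε * (a * b), ?_⟩
        rw [Units.val_mul, pow_two, sq_mul (ε := ε) hε ha hb]
      | inv x hx ih =>
        obtain ⟨a, ha⟩ := ih
        rw [← Units.val_pow_eq_pow_val] at ha
        have hsc : x ^ 2 ∈ Geo.scalars (Fin 4) F := mem_scalars_of_smul_one ha
        obtain ⟨b, hb⟩ := (Geo.mem_scalars_iff _).1 ((Geo.scalars (Fin 4) F).inv_mem hsc)
        refine ⟨b, ?_⟩
        rw [← Units.val_pow_eq_pow_val, inv_pow, hb]
  refine geometric_pauli c Nat.prime_three hq hR hRf fun g hg => ?_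
  show g ∈ Subgroup.normalizer (R : Set (GL (Fin 4) F))
  have hconj : ∀ g ∈ H, ∀ x ∈ R, g * x * g⁻¹ ∈ R := by
    intro g hg x hx
    have : R.map (MulAut.conj g).toMonoidHom ≤ R := by
      rw [hRdef, MonoidHom.map_closure, Subgroup.closure_le]
      rintro _ ⟨y, ⟨hya, hyy, hyJ, hy1, hy2⟩, rfl⟩
      refine Subgroup.subset_closure ?_
      set G := (g : Matrix (Fin 4) (Fin 4) F)
      set G' := ((g⁻¹ : GL (Fin 4) F) : Matrix (Fin 4) (Fin 4) F)
      have hG : G * G' = 1 := Units.mul_inv g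
      have hG' : G' * G = 1 := Units.inv_mul g
      have hval : ((MulAut.conj g).toMonoidHom y : GL (Fin 4) F).1 = G * y * G' := by simp [G, G']
      have hne : ∀ M : Matrix (Fin 4) (Fin 4) F, G * y * G' = M → y.1 = G' * M * G := fun M hM => by
        rw [← hM]; simp [← mul_assoc, hG', mul_assoc _ G' G]
      have hGJ : G' * J = J * G' ∨ G' * J = -(J * G') := hHJ g⁻¹ (H.inv_mem hg)
      refine ⟨?_, ?_, ?_, ?_, ?_⟩ <;> rw [hval]
      · have hgi : g ∈ isom f := c.maximal.1.le hg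
        rw [adj_mul hf, adj_mul hf, hya, adj_iso hf hgi, adj_iso hf ((isom f).inv_mem hgi), inv_inv,
          mul_assoc]
      · simp only [mul_assoc]
        rw [← mul_assoc G' G, hG', one_mul, ← mul_assoc (y : Matrix (Fin 4) (Fin 4) F), hyy, one_mul, hG]
      · have hto : ∀ M : Matrix (Fin 4) (Fin 4) F, (M * J = J * M ∨ M * J = -(J * M)) →
            ∃ ε : F, (ε = 1 ∨ ε = -1) ∧ SComm ε J M := by
          rintro M (h | h)
          · exact ⟨1, Or.inl rfl, by rw [SComm, h, one_smul]⟩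
          · exact ⟨-1, Or.inr rfl, by rw [SComm, h, neg_one_smul, neg_neg]⟩
        obtain ⟨ε1, hε1, s1⟩ := hto G (hHJ g hg)
        obtain ⟨ε2, hε2, s2⟩ := hto y.1 hyJ
        obtain ⟨ε3, hε3, s3⟩ := hto G' hGJ
        have s4 := (s1.mul s2).mul s3
        have hε : ε1 * ε2 * ε3 = 1 ∨ ε1 * ε2 * ε3 = -1 := by
          rcases hε1 with rfl | rfl <;> rcases hε2 with rfl | rfl <;> rcases hε3 with rfl | rfl <;> simp
        rcases hε with h | h <;> rw [h] at s4
        · exact Or.inl s4.comm_eq.symm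
        · refine Or.inr ?_
          rw [s4.anti_eq, neg_neg]
      · intro h
        refine hy1 ((hne 1 h).trans ?_)
        rw [mul_one, hG']
      · intro h
        refine hy2 ((hne (-1) h).trans ?_)
        rw [mul_neg, mul_one, neg_mul, hG']
    exact this ⟨x, hx, rfl⟩
  rw [Subgroup.mem_normalizer_iff]
  exact fun x => ⟨fun hx => hconj g hg x hx, fun hx => by
    simpa [mul_assoc] using hconj g⁻¹ (H.inv_mem hg) _ hx⟩

end Cfsg.Agent.AschbacherFour.Sp
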