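import Cfsg.Agent.Lib.Aschbacher.UnitarySubfield
import Cfsg.Agent.Lib.AschbacherFour.UnitaryGeometry

/-!
Geometric subgroups of the isometry group of a symplectic form in dimension four.
-/

set_option autoImplicit false

namespace Cfsg.Agent.AschbacherFour.Sp

open Matrix Aschbacher
open scoped MatrixGroups

variable {F : Type*} [Field F] [Fintype F] {f : (Fin 4 → F) → (Fin 4 → F) → F}
  {H : Subgroup (GL (Fin 4) F)}

/-- The isometry group of `f`. -/
abbrev isom (f : (Fin 4 → F) → (Fin 4 → F) → F) : Subgroup (GL (Fin 4) F) :=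
  preserving (glToMat (Fin 4) F) f

/-- A maximal subgroup of the isometry group of a symplectic form. -/
structure Ctx (f : (Fin 4 → F) → (Fin 4 → F) → F) (H : Subgroup (GL (Fin 4) F)) : Prop where
  form : Geo.IsSymplecticForm f
  large : Odd (Fintype.card F) ∨ 4 ≤ Fintype.card F
  maximal : Geo.IsMaximalIn (isom f) H

/-- The geometric possibilities for a maximal subgroup of the isometry group of `f`. -/
def SGeometric (f : (Fin 4 → F) → (Fin 4 → F) → F) (H : Subgroup (GL (Fin 4) F)) : Prop :=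
  (∃ W : Submodule F (Fin 4 → F), W ≠ ⊥ ∧ Geo.IsTotallySingularFor f W ∧
      H = Geo.subspaceStabilizer W ⊓ isom f) ∨
  (∃ D : Fin 2 → Submodule F (Fin 4 → F), Geo.IsNondegenerateMDecomposition f 2 D ∧
      H = Geo.decompositionStabilizer D ⊓ isom f) ∨
  (Odd (Fintype.card F) ∧ 5 ≤ Fintype.card F ∧ ∃ D : Fin 2 → Submodule F (Fin 4 → F),
      Geo.IsMDecomposition 2 D ∧ (∀ i, Geo.IsTotallySingularFor f (D i)) ∧
      H = Geo.decompositionStabilizer D ⊓ isom f) ∨
  (∃ K : Subalgebra F (Matrix (Fin 4) (Fin 4) F), Geo.IsFieldSubalgebra 2 K ∧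
      Geo.IsSelfAdjointFor f K ∧ (∀ k ∈ K, ∀ v : Fin 4 → F, f (k *ᵥ v) v = 0) ∧
      H = Geo.subalgebraNormalizer K ⊓ isom f) ∨
  (Odd (Fintype.card F) ∧ 5 ≤ Fintype.card F ∧ ∃ K : Subalgebra F (Matrix (Fin 4) (Fin 4) F),
      Geo.IsFieldSubalgebra 2 K ∧ Geo.IsAdjointClosedFor f K ∧ ¬ Geo.IsSelfAdjointFor f K ∧
      H = Geo.subalgebraNormalizer K ⊓ isom f) ∨
  (∃ (F₀ : Subfield F) (r : ℕ) (P : GL (Fin 4) F) (ζ : F), r.Prime ∧
      Fintype.card F = Nat.card F₀ ^ r ∧ ζ ≠ 0 ∧ Geo.IsFormRationalStructure f F₀ ζ P ∧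
      H = Geo.subfieldSubgroup F₀ P ⊓ isom f) ∨
  (Odd (Fintype.card F) ∧ ∃ (p : ℕ) (R : Subgroup (GL (Fin 4) F)), p.Prime ∧ Fintype.card F = p ∧
      Geo.IsSymplecticTypeGroup 2 R ∧ Geo.ActsAbsolutelyIrreducibly (Geo.matrixSet R) ∧
      R ≤ Geo.similarityGroup f ∧ Nat.card R = 32 ∧ Nat.card (Subgroup.center R) = 2 ∧
      Geo.IsOfMinusType 2 R ∧ H = Geo.subgroupNormalizer R ⊓ isom f) ∨
  (¬ Odd (Fintype.card F) ∧ ∃ Q : (Fin 4 → F) → F, Geo.IsNondegenerateQuadraticForm Q ∧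
      (∀ u v, QuadraticMap.polar Q u v = f u v) ∧ H = Geo.quadSimilarityGroup Q ⊓ isom f)

namespace Ctx

theorem iso (c : Ctx f H) {g : GL (Fin 4) F} (hg : g ∈ H) (u v : Fin 4 → F) :
    f ((g : Matrix (Fin 4) (Fin 4) F) *ᵥ u) ((g : Matrix (Fin 4) (Fin 4) F) *ᵥ v) = f u v :=
  c.maximal.1.le hg u v

theorem fixes (c : Ctx f H) {P : Subgroup (GL (Fin 4) F)} (hP : P ≤ H) :
    Geo.FixesForm (Geo.matrixSet P) f := by
  rintro s ⟨x, hx, rfl⟩ u v
  exact c.iso (hP hx) u v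

theorem eq_inf (c : Ctx f H) {M : Subgroup (GL (Fin 4) F)} (hle : H ≤ M)
    (hnot : ¬ isom f ≤ M) : H = M ⊓ isom f :=
  eq_inf_of_maximal c.maximal hle hnot

theorem sesq (c : Ctx f H) : IsSesq (RingHom.id F) f := IsSesq.of_bilinear c.form.bilinear

theorem even_two (_c : Ctx f H) (h : ¬ Odd (Fintype.card F)) : (2 : F) = 0 := by
  obtain ⟨p, hp⟩ := CharP.exists F
  haveI := hp
  obtain ⟨e, hpp, hc⟩ := FiniteField.card F p
  rcases hpp.eq_two_or_odd' with rfl | hodd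
  · exact_mod_cast CharP.cast_eq_zero F 2
  · exact absurd (hc ▸ hodd.pow) h

theorem four_le (c : Ctx f H) (h : ¬ Odd (Fintype.card F)) : 4 ≤ Fintype.card F :=
  c.large.resolve_left h

/-- An isometry multiplies the form by one only. -/
theorem form_right (c : Ctx f H) (u v : Fin 4 → F) : f u v = 0 → f v u = 0 := fun h => by
  rw [c.form.skew, h, neg_zero]

end Ctx

/-- The functional `u ↦ f u v`. -/
def leftMap (hf : Geo.IsSymplecticForm f) (v : Fin 4 → F) : (Fin 4 → F) →ₗ[F] F where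
  toFun u := f u v
  map_add' x y := hf.bilinear.add_left x y v
  map_smul' r x := hf.bilinear.smul_left r x v

omit [Fintype F] in
theorem zero_left (hf : Geo.IsSymplecticForm f) (v : Fin 4 → F) : f 0 v = 0 :=
  (leftMap hf v).map_zero

omit [Fintype F] in
theorem zero_right (hf : Geo.IsSymplecticForm f) (v : Fin 4 → F) : f v 0 = 0 := by
  rw [hf.skew, zero_left hf, neg_zero]

omit [Fintype F] in
/-- Symplectic transvections are isometries. -/
theorem exists_sp_transvection (hf : Geo.IsSymplecticForm f) (v : Fin 4 → F) (a : F) :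
    ∃ g : GL (Fin 4) F, g ∈ isom f ∧
      ∀ u, (g : Matrix (Fin 4) (Fin 4) F) *ᵥ u = u + (a * f u v) • v := by
  obtain ⟨w, hw⟩ := exists_dotProduct_eq (a • leftMap hf v)
  have hwv : w ⬝ᵥ v = 0 := by
    rw [← hw]; show a * f v v = 0
    rw [hf.alternating, mul_zero]
  have hsq : Matrix.vecMulVec v w * Matrix.vecMulVec v w = (0 : Matrix (Fin 4) (Fin 4) F) := by
    rw [Matrix.vecMulVec_mul_vecMulVec, hwv, zero_smul, Matrix.vecMulVec_zero]
  have hmul : ∀ u, (1 + Matrix.vecMulVec v w : Matrix (Fin 4) (Fin 4) F) *ᵥ u =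
      u + (a * f u v) • v := by
    intro u
    rw [Matrix.add_mulVec, Matrix.one_mulVec, Matrix.vecMulVec_mulVec, op_smul_eq_smul, ← hw]
    rfl
  refine ⟨⟨1 + Matrix.vecMulVec v w, 1 - Matrix.vecMulVec v w, ?_, ?_⟩, fun x y => ?_, hmul⟩
  · rw [add_mul, mul_sub, mul_sub, one_mul, one_mul, mul_one, hsq, sub_zero, sub_add_cancel]
  · rw [sub_mul, mul_add, mul_add, one_mul, one_mul, mul_one, hsq, add_zero, add_sub_cancel_right]
  · show f ((1 + Matrix.vecMulVec v w) *ᵥ x) ((1 + Matrix.vecMulVec v w) *ᵥ y) = f x y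
    rw [hmul, hmul]
    simp only [hf.bilinear.add_left, hf.bilinear.add_right, hf.bilinear.smul_left,
      hf.bilinear.smul_right, hf.alternating, mul_zero, add_zero]
    rw [hf.skew v y]
    ring

theorem not_le_subspace (hf : Geo.IsSymplecticForm f) {W : Submodule F (Fin 4 → F)} (h0 : W ≠ ⊥)
    (h1 : W ≠ ⊤) : ¬ isom f ≤ Geo.subspaceStabilizer W := by
  intro hle
  let V : Submodule F (Fin 4 → F) :=
    { carrier := {v | ∀ w ∈ W, f w v = 0}
      zero_mem' := fun w _ => zero_right hf w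
      add_mem' := fun {a b} ha hb w hw => by
        rw [hf.bilinear.add_right, ha w hw, hb w hw, add_zero]
      smul_mem' := fun r a ha w hw => by rw [hf.bilinear.smul_right, ha w hw, mul_zero] }
  have hor : ∀ v, v ∈ W ∨ v ∈ V := by
    intro v
    by_contra hcon
    push Not at hcon
    obtain ⟨hvW, hvV⟩ := hcon
    simp only [V, Submodule.mem_mk, AddSubmonoid.mem_mk, AddSubsemigroup.mem_mk] at hvV
    obtain ⟨w, hw, hne⟩ : ∃ w ∈ W, f w v ≠ 0 := by simpa using hvV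
    obtain ⟨g, hg, hgu⟩ := exists_sp_transvection hf v 1
    have h2 := ((hle hg) w).1 hw
    change (g : Matrix (Fin 4) (Fin 4) F) *ᵥ w ∈ W at h2
    rw [hgu, one_mul] at h2
    exact hvW ((Submodule.smul_mem_iff W hne).1 (by simpa using W.sub_mem h2 hw))
  obtain ⟨w, hw, hw0⟩ := (Submodule.ne_bot_iff W).1 h0
  obtain ⟨x, hx⟩ := (hf.nondegenerate w hw0).2
  have hxV : x ∉ V := fun h => hx (h w hw)
  obtain ⟨y, -, hy⟩ := SetLike.exists_of_lt (lt_top_iff_ne_top.2 h1)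
  have hxW := (hor x).resolve_right hxV
  have hyV := (hor y).resolve_left hy
  rcases hor (x + y) with h | h
  · exact hy ((Submodule.add_mem_iff_right W hxW).1 h)
  · exact hxV ((Submodule.add_mem_iff_left V hyV).1 h)

omit [Fintype F] in
theorem not_le_of_vectors (hf : Geo.IsSymplecticForm f) {D : Fin 2 → Submodule F (Fin 4 → F)}
    (hD : Geo.IsMDecomposition 2 D) {x y u : Fin 4 → F} (hx : x ∈ D 0) (hy : y ∈ D 1) (hu : u ∈ D 0)
    (hy0 : y ≠ 0) (hfu : f u (x + y) ≠ 0) (hux : ∀ a : F, u ≠ a • x) :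
    ¬ isom f ≤ Geo.decompositionStabilizer D := by
  intro hle
  obtain ⟨g, hg, hgu⟩ := exists_sp_transvection hf (x + y) 1
  obtain ⟨π, hπ⟩ := hle hg
  have h1 : (g : Matrix (Fin 4) (Fin 4) F) *ᵥ u ∈ D (π 0) := by
    rw [← hπ 0]; exact ⟨u, hu, Matrix.toLin'_apply _ _⟩
  rw [hgu, smul_add, ← add_assoc, one_mul] at h1
  set a := f u (x + y)
  obtain h2 | h2 : π 0 = 0 ∨ π 0 = 1 := by generalize π 0 = k; fin_cases k <;> simp
  · rw [h2] at h1
    have h3 : a • y ∈ D 0 := by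
      simpa using Submodule.sub_mem _ h1 (Submodule.add_mem _ hu (Submodule.smul_mem _ a hx))
    exact smul_ne_zero hfu hy0 (planes_disjoint hD h3 (Submodule.smul_mem _ a hy))
  · rw [h2] at h1
    have h3 : u + a • x ∈ D 1 := by
      simpa using Submodule.sub_mem _ h1 (Submodule.smul_mem _ a hy)
    have h4 := planes_disjoint hD (Submodule.add_mem _ hu (Submodule.smul_mem _ a hx)) h3
    exact hux (-a) (by rw [neg_smul]; exact eq_neg_of_add_eq_zero_left h4)

omit [Fintype F] in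
theorem exists_mem_ne_zero {D : Fin 2 → Submodule F (Fin 4 → F)} (hD : Geo.IsMDecomposition 2 D)
    (i : Fin 2) : ∃ v ∈ D i, v ≠ 0 :=
  (Submodule.ne_bot_iff _).1 fun h0 => by
    have := hD.finrank_eq i
    rw [h0, finrank_bot] at this
    omega

omit [Fintype F] in
theorem not_le_orth_planes (hf : Geo.IsSymplecticForm f) {D : Fin 2 → Submodule F (Fin 4 → F)}
    (hD : Geo.IsNondegenerateMDecomposition f 2 D) : ¬ isom f ≤ Geo.decompositionStabilizer D := by
  obtain ⟨x, hx, hx0⟩ := exists_mem_ne_zero hD.decomp 0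
  obtain ⟨y, hy, hy0⟩ := exists_mem_ne_zero hD.decomp 1
  obtain ⟨u, hu, hux⟩ := (hD.nondegenerate 0 x hx hx0).1
  refine not_le_of_vectors hf hD.decomp hx hy hu hy0 ?_ fun a ha => hux ?_
  · rwa [hf.bilinear.add_right, hD.orthogonal 0 1 (by decide) u hu y hy, add_zero]
  · rw [ha, hf.bilinear.smul_left, hf.alternating, mul_zero]

omit [Fintype F] in
theorem not_le_ts_planes (hf : Geo.IsSymplecticForm f) {D : Fin 2 → Submodule F (Fin 4 → F)}
    (hD : Geo.IsMDecomposition 2 D) (hts : ∀ i, Geo.IsTotallySingularFor f (D i)) :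
    ¬ isom f ≤ Geo.decompositionStabilizer D := by
  obtain ⟨y, hy, hy0⟩ := exists_mem_ne_zero hD 1
  have hker : LinearMap.ker ((leftMap hf y).comp (D 0).subtype) ≠ ⊥ := fun h0 => by
    have := LinearMap.finrank_le_finrank_of_injective (LinearMap.ker_eq_bot.1 h0)
    rw [Module.finrank_self, hD.finrank_eq 0] at this
    omega
  obtain ⟨⟨x, hx⟩, hxk, -⟩ := (Submodule.ne_bot_iff _).1 hker
  have hxy : f x y = 0 := hxk
  obtain ⟨u, hu, hfu⟩ : ∃ u ∈ D 0, f u y ≠ 0 := by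
    obtain ⟨t, ht⟩ := (hf.nondegenerate y hy0).1
    obtain ⟨t0, ht0, t1, ht1, rfl⟩ :=
      Submodule.mem_sup.1 ((planes_sup hD).ge (Submodule.mem_top : t ∈ ⊤))
    exact ⟨t0, ht0, fun h0 => ht (by rw [hf.bilinear.add_left, h0, hts 1 t1 ht1 y hy, add_zero])⟩
  refine not_le_of_vectors hf hD hx hy hu hy0 ?_ fun a ha => hfu ?_
  · rwa [hf.bilinear.add_right, hts 0 u hu x hx, zero_add]
  · rw [ha, hf.bilinear.smul_left, hxy, mul_zero]

theorem not_le_subalgebraNormalizer (hf : Geo.IsSymplecticForm f)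
    {K : Subalgebra F (Matrix (Fin 4) (Fin 4) F)} (hK : Geo.IsFieldSubalgebra 2 K) :
    ¬ isom f ≤ Geo.subalgebraNormalizer K := by
  intro hle
  obtain ⟨k, hk, hkns⟩ : ∃ k ∈ K, ∀ c : F, k ≠ c • (1 : Matrix (Fin 4) (Fin 4) F) := by
    by_contra hcon
    push Not at hcon
    have hbot : K = ⊥ := by
      refine eq_bot_iff.2 fun k hk => ?_
      obtain ⟨c, rfl⟩ := hcon k hk
      exact Algebra.mem_bot.2 ⟨c, by rw [Algebra.algebraMap_eq_smul_one]⟩
    have := hK.finrank_eq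
    rw [hbot, Subalgebra.finrank_bot] at this
    omega
  have hinj : ∀ m ∈ K, ∀ u : Fin 4 → F, u ≠ 0 → m *ᵥ u = 0 → m = 0 := by
    intro m hm u hu0 hmu
    by_contra h0
    obtain ⟨m', hm', hmm⟩ := hK.inv m hm h0
    have hmm' : m' * m = 1 := by rw [hK.comm _ hm' _ hm, hmm]
    apply hu0
    rw [← Matrix.one_mulVec u, ← hmm', ← Matrix.mulVec_mulVec, hmu, Matrix.mulVec_zero]
  let v : Fin 4 → F := Pi.single 0 1
  have hv0 : v ≠ 0 := by simp [v]
  obtain ⟨g, hg, hgu⟩ := exists_sp_transvection hf v 1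
  have hm : (g : Matrix (Fin 4) (Fin 4) F) * k * ((g⁻¹ : GL (Fin 4) F) : Matrix (Fin 4) (Fin 4) F) ∈ K :=
    (hle hg k).1 hk
  obtain ⟨u, ⟨hu1, hu2⟩, hu0⟩ : ∃ u, (f u v = 0 ∧ f (k *ᵥ u) v = 0) ∧ u ≠ 0 := by
    let L : (Fin 4 → F) →ₗ[F] F × F :=
      (leftMap hf v).prod ((leftMap hf v).comp (Matrix.toLin' k))
    have hker : LinearMap.ker L ≠ ⊥ := by
      intro h'
      have h1 := LinearMap.finrank_le_finrank_of_injective (LinearMap.ker_eq_bot.1 h')
      simp [Module.finrank_fintype_fun_eq_card] at h1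
    obtain ⟨u, hu, hu0⟩ := (Submodule.ne_bot_iff _).1 hker
    have hu' : L u = 0 := hu
    exact ⟨u, ⟨congrArg Prod.fst hu', by simpa [L, leftMap] using congrArg Prod.snd hu'⟩, hu0⟩
  have hgfix : ((g⁻¹ : GL (Fin 4) F) : Matrix (Fin 4) (Fin 4) F) *ᵥ u = u := by
    conv_lhs => rw [show u = (g : Matrix (Fin 4) (Fin 4) F) *ᵥ u by
      rw [hgu, hu1, mul_zero, zero_smul, add_zero]]
    exact inv_mulVec g u
  have hzero := hinj _ (K.sub_mem hm hk) u hu0 (by
    rw [Matrix.sub_mulVec, ← Matrix.mulVec_mulVec, ← Matrix.mulVec_mulVec, hgfix, hgu, hu2, mul_zero,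
      zero_smul, add_zero, sub_self])
  rw [sub_eq_zero] at hzero
  have h1 : (g : Matrix (Fin 4) (Fin 4) F) * k = k * (g : Matrix (Fin 4) (Fin 4) F) := by
    calc (g : Matrix (Fin 4) (Fin 4) F) * k
        = (g : Matrix (Fin 4) (Fin 4) F) * k * ((g⁻¹ : GL (Fin 4) F) : Matrix (Fin 4) (Fin 4) F) *
            (g : Matrix (Fin 4) (Fin 4) F) := by
          rw [mul_assoc _ _ (g : Matrix (Fin 4) (Fin 4) F), ← Units.val_mul, inv_mul_cancel,
            Units.val_one, mul_one]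
      _ = k * (g : Matrix (Fin 4) (Fin 4) F) := by rw [hzero]
  obtain ⟨w, hw⟩ := (hf.nondegenerate v hv0).1
  have h2 := congrArg (· *ᵥ w) h1
  simp only [← Matrix.mulVec_mulVec] at h2
  rw [hgu, hgu, Matrix.mulVec_add, add_right_inj, Matrix.mulVec_smul, one_mul, one_mul] at h2
  have hkv : k *ᵥ v = ((f w v)⁻¹ * f (k *ᵥ w) v) • v := by
    rw [mul_smul, h2, smul_smul, inv_mul_cancel₀ hw, one_smul]
  exact hkns _ (sub_eq_zero.1 (hinj (k - ((f w v)⁻¹ * f (k *ᵥ w) v) • 1)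
    (K.sub_mem hk (K.smul_mem K.one_mem _)) v hv0
    (by rw [Matrix.sub_mulVec, Matrix.smul_mulVec, Matrix.one_mulVec, hkv, sub_self])))

theorem not_le_subfieldSubgroup (hf : Geo.IsSymplecticForm f) {F₀ : Subfield F} (hF₀ : F₀ ≠ ⊤)
    (P : GL (Fin 4) F) : ¬ isom f ≤ Geo.subfieldSubgroup F₀ P := by
  classical
  intro hle
  let v : Fin 4 → F := Pi.single 0 1
  have hv0 : v ≠ 0 := by simp [v]
  obtain ⟨w, hw⟩ := (hf.nondegenerate v hv0).1
  have hR : ∀ a : F, a ≠ 0 → ∃ R : Matrix (Fin 4) (Fin 4) F, (∀ u, R *ᵥ u = (a * f u v) • v) ∧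
      ∀ i j, (((P⁻¹ : GL (Fin 4) F) : Matrix (Fin 4) (Fin 4) F) * R *
        (P : Matrix (Fin 4) (Fin 4) F)) i j ∈ F₀ := by
    intro a ha
    obtain ⟨g, hg, hgu⟩ := exists_sp_transvection hf v a
    obtain ⟨s, hs, hsg⟩ := hle hg
    obtain ⟨g₀', hg₀, z, hz, hgz⟩ := Subgroup.mem_sup_of_normal_right.1 hs
    obtain ⟨g₀, rfl⟩ := hg₀
    obtain ⟨l, hl⟩ := (Geo.mem_scalars_iff z).1 hz
    refine ⟨(g : Matrix (Fin 4) (Fin 4) F) - 1, fun u => by
      rw [Matrix.sub_mulVec, hgu, Matrix.one_mulVec, add_sub_cancel_left], ?_⟩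
    have hsval : (s : Matrix (Fin 4) (Fin 4) F) = ((P⁻¹ : GL (Fin 4) F) : Matrix (Fin 4) (Fin 4) F) *
        (g : Matrix (Fin 4) (Fin 4) F) * (P : Matrix (Fin 4) (Fin 4) F) := by
      rw [← hsg]; simp [mul_assoc]
    have hsl : (s : Matrix (Fin 4) (Fin 4) F) =
        (l : F) • (g₀ : Matrix (Fin 4) (Fin 4) F₀).map F₀.subtype := by
      rw [← hgz, Units.val_mul, hl, Matrix.mul_smul, mul_one]; rfl
    have hsub : ((P⁻¹ : GL (Fin 4) F) : Matrix (Fin 4) (Fin 4) F) *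
        ((g : Matrix (Fin 4) (Fin 4) F) - 1) * (P : Matrix (Fin 4) (Fin 4) F) =
        (s : Matrix (Fin 4) (Fin 4) F) - 1 := by
      rw [mul_sub, sub_mul, hsval, mul_one, Units.inv_mul]
    rw [hsub]
    refine entries_mem_of_unipotent (fun i j => ((g₀ : Matrix (Fin 4) (Fin 4) F₀) i j).2) hsl
      l.ne_zero ?_ ?_
    · rw [← hsub]
      have h2 : ((g : Matrix (Fin 4) (Fin 4) F) - 1) * ((g : Matrix (Fin 4) (Fin 4) F) - 1) = 0 := by
        refine Matrix.ext_of_mulVec_single fun i => ?_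
        generalize (Pi.single i (1 : F) : Fin 4 → F) = u
        rw [← Matrix.mulVec_mulVec, Matrix.zero_mulVec]
        simp only [Matrix.sub_mulVec, hgu, Matrix.one_mulVec, add_sub_cancel_left,
          hf.bilinear.smul_left, hf.alternating, mul_zero, zero_smul]
      calc _ = ((P⁻¹ : GL (Fin 4) F) : Matrix (Fin 4) (Fin 4) F) * (((g : Matrix (Fin 4) (Fin 4) F) - 1) *
            ((P : Matrix (Fin 4) (Fin 4) F) * ((P⁻¹ : GL (Fin 4) F) : Matrix (Fin 4) (Fin 4) F)) *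
            ((g : Matrix (Fin 4) (Fin 4) F) - 1)) * (P : Matrix (Fin 4) (Fin 4) F) := by noncomm_ring
        _ = 0 := by rw [← Units.val_mul, mul_inv_cancel, Units.val_one, mul_one, h2]; simp
    · rw [← hsub]
      intro h0
      have h1 : (g : Matrix (Fin 4) (Fin 4) F) - 1 = 0 := by
        have := congrArg (fun m => (P : Matrix (Fin 4) (Fin 4) F) * m *
          ((P⁻¹ : GL (Fin 4) F) : Matrix (Fin 4) (Fin 4) F)) h0
        simpa [← mul_assoc, ← Units.val_mul, mul_assoc ((g : Matrix (Fin 4) (Fin 4) F) - 1)] using this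
      have h2 := congrArg (· *ᵥ w) h1
      simp only [Matrix.sub_mulVec, hgu, Matrix.one_mulVec, add_sub_cancel_left, Matrix.zero_mulVec,
        smul_eq_zero] at h2
      exact h2.elim (mul_ne_zero ha hw) hv0
  refine hF₀ (top_le_iff.1 fun x _ => ?_)
  by_cases hx : x = 0
  · rw [hx]; exact zero_mem _
  obtain ⟨R, hRu, hRmem⟩ := hR 1 one_ne_zero
  obtain ⟨R', hR'u, hR'mem⟩ := hR x hx
  have hR' : R' = x • R := Matrix.ext_of_mulVec_single fun l => by
    rw [hR'u, Matrix.smul_mulVec, hRu, smul_smul, one_mul]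
  set T := ((P⁻¹ : GL (Fin 4) F) : Matrix (Fin 4) (Fin 4) F) * R * (P : Matrix (Fin 4) (Fin 4) F)
    with hTdef
  obtain ⟨s, t, hst⟩ : ∃ s t, T s t ≠ 0 := by
    by_contra hcon
    push Not at hcon
    have hR0 : R = 0 := by
      have h1 : T = 0 := Matrix.ext hcon
      have := congrArg (fun m => (P : Matrix (Fin 4) (Fin 4) F) * m *
        ((P⁻¹ : GL (Fin 4) F) : Matrix (Fin 4) (Fin 4) F)) h1
      simpa [T, ← mul_assoc, ← Units.val_mul, mul_assoc R] using this
    have h2 := hRu w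
    rw [hR0, Matrix.zero_mulVec, one_mul, eq_comm, smul_eq_zero] at h2
    exact h2.elim hw hv0
  have h1 := hR'mem s t
  rw [hR', Matrix.mul_smul, Matrix.smul_mul, ← hTdef, Matrix.smul_apply, smul_eq_mul] at h1
  rw [show x = x * T s t * (T s t)⁻¹ by field_simp]
  exact mul_mem h1 (inv_mem (hRmem s t))

theorem not_le_quadSimilarity (hf : Geo.IsSymplecticForm f) (h2 : (2 : F) = 0)
    (h4 : 4 ≤ Fintype.card F) {Q : (Fin 4 → F) → F} (hQ : Geo.IsNondegenerateQuadraticForm Q)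
    (hpol : ∀ u v, QuadraticMap.polar Q u v = f u v) :
    ¬ isom f ≤ Geo.quadSimilarityGroup Q := by
  classical
  intro hle
  have hadd : ∀ u v, Q (u + v) = Q u + Q v + f u v := fun u v => by
    rw [← hpol]; simp only [QuadraticMap.polar]; ring
  haveI : CharP F 2 := by
    obtain ⟨p, hp⟩ := CharP.exists F
    haveI := hp
    have hd : p ∣ 2 := (CharP.cast_eq_zero_iff F p 2).1 (by exact_mod_cast h2)
    obtain ⟨e, hpp, -⟩ := FiniteField.card F p
    obtain rfl := (Nat.prime_dvd_prime_iff_eq hpp Nat.prime_two).1 hd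
    exact hp
  have hsqrt : ∀ a : F, ∃ b, b * b = a := fun a => by
    obtain ⟨b, hb⟩ := FiniteField.isSquare_of_char_two (ringChar.eq F 2) a
    exact ⟨b, hb.symm⟩
  -- a singular vector
  obtain ⟨u, hu0, hQu⟩ : ∃ u : Fin 4 → F, u ≠ 0 ∧ Q u = 0 := by
    let e : Fin 4 → F := Pi.single 0 1
    have he : e ≠ 0 := by simp [e]
    by_cases hQe : Q e = 0
    · exact ⟨e, he, hQe⟩
    obtain ⟨w, hwk, hwspan⟩ : ∃ w, f w e = 0 ∧ w ∉ Submodule.span F {e} := by
      by_contra hcon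
      push Not at hcon
      have hle' : LinearMap.ker (leftMap hf e) ≤ Submodule.span F {e} := fun w hw => hcon w hw
      have h1 := Submodule.finrank_mono hle'
      rw [finrank_span_singleton he] at h1
      have h3 := LinearMap.finrank_range_add_finrank_ker (leftMap hf e)
      have h5 := Submodule.finrank_le (LinearMap.range (leftMap hf e))
      rw [Module.finrank_self] at h5
      rw [Module.finrank_fintype_fun_eq_card, Fintype.card_fin] at h3
      omega
    have hw0 : w ≠ 0 := fun h0 => hwspan (h0 ▸ Submodule.zero_mem _)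
    by_cases hQw : Q w = 0
    · exact ⟨w, hw0, hQw⟩
    obtain ⟨a, ha⟩ := hsqrt (Q w)
    obtain ⟨b, hb⟩ := hsqrt (Q e)
    have hb0 : b ≠ 0 := fun h0 => hQe (by rw [← hb, h0, zero_mul])
    refine ⟨b • w + a • e, fun h0 => hwspan ?_, ?_⟩
    · refine Submodule.mem_span_singleton.2 ⟨-(b⁻¹ * a), ?_⟩
      rw [eq_comm, ← sub_eq_zero, neg_smul, sub_neg_eq_add, mul_smul,
        show w + b⁻¹ • a • e = b⁻¹ • (b • w + a • e) by
          rw [smul_add, smul_smul b⁻¹ b, inv_mul_cancel₀ hb0, one_smul], h0, smul_zero]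
    · rw [hadd, hQ.smul, hQ.smul, hf.bilinear.smul_left, hf.bilinear.smul_right, hwk, pow_two,
        pow_two, hb, ha]
      linear_combination (Q e * Q w) * h2
  obtain ⟨v, hv⟩ := (hf.nondegenerate u hu0).2
  obtain ⟨a, ha0, ha1⟩ : ∃ a : F, a ≠ 0 ∧ a * Q v + 1 ≠ 0 := by
    by_contra hcon
    push Not at hcon
    have hsub : (Finset.univ : Finset F) ⊆ {0, -(Q v)⁻¹} := fun a _ => by
      by_cases ha : a = 0
      · simp [ha]
      · have h1 := hcon a ha
        have hQv : Q v ≠ 0 := fun h0 => by simp [h0] at h1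
        have : a = -(Q v)⁻¹ := by field_simp; linear_combination h1
        simp [this]
    have h1 := (Finset.card_le_card hsub).trans Finset.card_le_two
    rw [Finset.card_univ] at h1
    omega
  obtain ⟨g, hg, hgu⟩ := exists_sp_transvection hf v a
  obtain ⟨d, hd⟩ := hle hg
  have h3 := hd u
  rw [hgu, hadd, hQ.smul, hf.bilinear.smul_right, hQu, mul_zero] at h3
  refine mul_ne_zero (mul_ne_zero ha0 (pow_ne_zero 2 hv)) ha1 ?_
  linear_combination h3

end Cfsg.Agent.AschbacherFour.Sp
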