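import Cfsg.Agent.Lib.AschbacherFour.Sp.Basic
import Cfsg.Agent.Lib.AschbacherFour.SignGroup

/-!
Groups of symplectic type consisting of isometries of a symplectic form in dimension four.
-/

set_option autoImplicit false

namespace Cfsg.Agent.AschbacherFour.Sp

open Matrix Aschbacher
open scoped MatrixGroups

variable {F : Type*} [Field F] {f : (Fin 4 → F) → (Fin 4 → F) → F}
  {H N : Subgroup (GL (Fin 4) F)}

/-- `X` commutes with `A` up to the sign `ε`. -/
def SComm (ε : F) (A X : Matrix (Fin 4) (Fin 4) F) : Prop := A * X = ε • (X * A)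

theorem SComm.one (A : Matrix (Fin 4) (Fin 4) F) : SComm 1 A 1 := by simp [SComm]

theorem SComm.mul {ε δ : F} {A X Y : Matrix (Fin 4) (Fin 4) F} (h : SComm ε A X) (h' : SComm δ A Y) :
    SComm (ε * δ) A (X * Y) := by
  unfold SComm at *
  rw [← mul_assoc, h, Matrix.smul_mul, mul_assoc, h', Matrix.mul_smul, smul_smul, mul_assoc]

theorem SComm.pow {ε : F} {A X : Matrix (Fin 4) (Fin 4) F} (h : SComm ε A X) (n : ℕ) :
    SComm (ε ^ n) A (X ^ n) := by
  induction n with
  | zero => simpa using SComm.one A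
  | succ n ih => rw [pow_succ, pow_succ]; exact ih.mul h

theorem SComm.symm {ε : F} {A X : Matrix (Fin 4) (Fin 4) F} (h : SComm ε A X) (hε : ε * ε = 1) :
    SComm ε X A := by
  unfold SComm at *
  rw [h, smul_smul, hε, one_smul]

theorem SComm.self (A : Matrix (Fin 4) (Fin 4) F) : SComm 1 A A := by simp [SComm]

theorem sq_mul {ε s t : F} {X Y : Matrix (Fin 4) (Fin 4) F} (h : SComm ε Y X) (hX : X * X = s • 1)
    (hY : Y * Y = t • 1) : (X * Y) * (X * Y) = (ε * (s * t)) • 1 := by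
  rw [mul_assoc, ← mul_assoc Y X, show Y * X = ε • (X * Y) from h, Matrix.smul_mul, Matrix.mul_smul,
    mul_assoc X Y Y, hY, Matrix.mul_smul, mul_one, Matrix.mul_smul, hX, smul_smul, smul_smul]
  congr 1
  ring

theorem SComm.comm_eq {A X : Matrix (Fin 4) (Fin 4) F} (h : SComm (1 : F) A X) : A * X = X * A := by
  rw [show A * X = (1 : F) • (X * A) from h, one_smul]

theorem SComm.anti_eq {A X : Matrix (Fin 4) (Fin 4) F} (h : SComm (-1 : F) A X) :
    A * X = -(X * A) := by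
  rw [show A * X = (-1 : F) • (X * A) from h, neg_one_smul]

theorem exists_sign (hN : SymType N) {x y : GL (Fin 4) F} (hx : x ∈ N) (hy : y ∈ N) :
    ∃ ε : F, (ε = 1 ∨ ε = -1) ∧
      SComm ε (x : Matrix (Fin 4) (Fin 4) F) (y : Matrix (Fin 4) (Fin 4) F) := by
  rcases hN.anti hx hy with h | h
  · exact ⟨1, Or.inl rfl, by rw [SComm, h, one_smul]⟩
  · exact ⟨-1, Or.inr rfl, by rw [SComm, h, neg_one_smul]⟩

theorem sign_unique {x y : GL (Fin 4) F} {ε δ : F}
    (h : SComm ε (x : Matrix (Fin 4) (Fin 4) F) (y : Matrix (Fin 4) (Fin 4) F))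
    (h' : SComm δ (x : Matrix (Fin 4) (Fin 4) F) (y : Matrix (Fin 4) (Fin 4) F)) : ε = δ :=
  smul_left_injective F (coe_mul_ne (x := y) (y := x)) (Eq.trans (Eq.symm h) h')

theorem nonscalar_of_anti (h2 : (2 : F) ≠ 0) {x a : GL (Fin 4) F}
    (h : SComm (-1 : F) (a : Matrix (Fin 4) (Fin 4) F) (x : Matrix (Fin 4) (Fin 4) F)) :
    ¬ IsScalarMat (x : Matrix (Fin 4) (Fin 4) F) := fun hs => by
  have h1 : SComm (1 : F) (a : Matrix (Fin 4) (Fin 4) F) (x : Matrix (Fin 4) (Fin 4) F) := by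
    rw [SComm, one_smul]; exact isScalarMat_mul_comm hs _
  have := sign_unique h h1
  exact h2 (by linear_combination -this)

theorem smul_one_inj {s t : F} (h : s • (1 : Matrix (Fin 4) (Fin 4) F) = t • 1) : s = t :=
  smul_left_injective F one_ne_zero h

theorem nonscalar_sq (hN : SymType N) {x : GL (Fin 4) F} (hx : x ∈ N)
    (hns : ¬ IsScalarMat (x : Matrix (Fin 4) (Fin 4) F)) :
    ∃ s : F, (s = 1 ∨ s = -1) ∧
      (x : Matrix (Fin 4) (Fin 4) F) * (x : Matrix (Fin 4) (Fin 4) F) = s • 1 := by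
  rcases hN.sq hx hns with h | h
  · exact ⟨1, Or.inl rfl, by rw [← pow_two, h, one_smul]⟩
  · exact ⟨-1, Or.inr rfl, by rw [← pow_two, h, neg_one_smul]⟩

variable [Finite F]

/-- Two anticommuting elements have a second anticommuting pair in their centraliser. -/
theorem exists_pair (hN : SymType N) {a b : GL (Fin 4) F} (ha : a ∈ N) (hb : b ∈ N)
    (hab : SComm (-1 : F) (a : Matrix (Fin 4) (Fin 4) F) (b : Matrix (Fin 4) (Fin 4) F)) :
    ∃ y ∈ N, ∃ z ∈ N, SComm (1 : F) (a : Matrix (Fin 4) (Fin 4) F) (y : Matrix (Fin 4) (Fin 4) F) ∧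
      SComm (1 : F) (b : Matrix (Fin 4) (Fin 4) F) (y : Matrix (Fin 4) (Fin 4) F) ∧
      SComm (1 : F) (a : Matrix (Fin 4) (Fin 4) F) (z : Matrix (Fin 4) (Fin 4) F) ∧
      SComm (1 : F) (b : Matrix (Fin 4) (Fin 4) F) (z : Matrix (Fin 4) (Fin 4) F) ∧
      SComm (-1 : F) (y : Matrix (Fin 4) (Fin 4) F) (z : Matrix (Fin 4) (Fin 4) F) := by
  classical
  have hba := hab.symm (by ring)
  -- every element can be corrected to commute with both
  have hadj : ∀ x ∈ N, ∃ i j : Fin 2,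
      SComm (1 : F) (a : Matrix (Fin 4) (Fin 4) F)
        ((x * (b ^ (j : ℕ) * a ^ (i : ℕ)) : GL (Fin 4) F) : Matrix (Fin 4) (Fin 4) F) ∧
      SComm (1 : F) (b : Matrix (Fin 4) (Fin 4) F)
        ((x * (b ^ (j : ℕ) * a ^ (i : ℕ)) : GL (Fin 4) F) : Matrix (Fin 4) (Fin 4) F) := by
    intro x hx
    obtain ⟨ε, hε, hxa⟩ := exists_sign hN ha hx
    obtain ⟨δ, hδ, hxb⟩ := exists_sign hN hb hx
    refine ⟨if δ = 1 then 0 else 1, if ε = 1 then 0 else 1, ?_, ?_⟩
    · simp only [Units.val_mul, Units.val_pow_eq_pow_val]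
      convert hxa.mul ((hab.pow _).mul ((SComm.self _).pow _)) using 1
      rcases hε with rfl | rfl <;> rcases hδ with rfl | rfl <;> split_ifs <;> simp_all
    · simp only [Units.val_mul, Units.val_pow_eq_pow_val]
      convert hxb.mul (((SComm.self _).pow _).mul (hba.pow _)) using 1
      rcases hε with rfl | rfl <;> rcases hδ with rfl | rfl <;> split_ifs <;> simp_all
  obtain ⟨y, hy, hay, hby, hys⟩ : ∃ y ∈ N,
      SComm (1 : F) (a : Matrix (Fin 4) (Fin 4) F) (y : Matrix (Fin 4) (Fin 4) F) ∧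
      SComm (1 : F) (b : Matrix (Fin 4) (Fin 4) F) (y : Matrix (Fin 4) (Fin 4) F) ∧
      ¬ IsScalarMat (y : Matrix (Fin 4) (Fin 4) F) := by
    by_contra hcon
    push Not at hcon
    let g : Fin 2 × Fin 2 → Quot N := fun e =>
      (((⟨b, hb⟩ : N) ^ (e.2 : ℕ) * (⟨a, ha⟩ : N) ^ (e.1 : ℕ) : N) : Quot N)⁻¹
    have hsurj : Function.Surjective g := by
      intro q
      obtain ⟨⟨x, hx⟩, rfl⟩ := QuotientGroup.mk_surjective q
      obtain ⟨i, j, h1, h2⟩ := hadj x hx
      refine ⟨(i, j), inv_eq_of_mul_eq_one_left ?_⟩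
      rw [← QuotientGroup.mk_mul, QuotientGroup.eq_one_iff, Subgroup.mem_subgroupOf]
      exact mem_scalars.2 (hcon _ (N.mul_mem hx (N.mul_mem (N.pow_mem hb _) (N.pow_mem ha _))) h1 h2)
    have h4 := Nat.card_le_card_of_surjective g hsurj
    rw [hN.card_quot] at h4
    simp at h4
  obtain ⟨z₀, hz₀, hz₀y⟩ := hN.exists_noncomm hys
  obtain ⟨i, j, h1, h2⟩ := hadj z₀ hz₀
  refine ⟨y, hy, _, N.mul_mem hz₀ (N.mul_mem (N.pow_mem hb _) (N.pow_mem ha _)), hay, hby, h1, h2, ?_⟩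
  obtain ⟨ε, hε, hyz⟩ := exists_sign hN hy hz₀
  have hε1 : ε = -1 := hε.resolve_left fun h => hz₀y (by subst h; exact hyz.comm_eq.symm)
  subst hε1
  simp only [Units.val_mul, Units.val_pow_eq_pow_val]
  convert hyz.mul (((hby.symm (one_mul 1)).pow _).mul ((hay.symm (one_mul 1)).pow _)) using 1
  simp

theorem exists_anti (hN : SymType N) :
    ∃ a ∈ N, ∃ b ∈ N, SComm (-1 : F) (a : Matrix (Fin 4) (Fin 4) F) (b : Matrix (Fin 4) (Fin 4) F) := by
  obtain ⟨a, ha, has⟩ := hN.exists_nonscalar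
  obtain ⟨b, hb, hba⟩ := hN.exists_noncomm has
  obtain ⟨ε, hε, hab⟩ := exists_sign hN ha hb
  refine ⟨a, ha, b, hb, ?_⟩
  rcases hε with rfl | rfl
  · exact absurd hab.comm_eq.symm hba
  · exact hab

theorem neg_one_mem (hN : SymType N) :
    ∃ z ∈ N, (z : Matrix (Fin 4) (Fin 4) F) = (-1 : F) • 1 := by
  obtain ⟨a, ha, b, hb, hab⟩ := exists_anti hN
  refine ⟨a * b * (b * a)⁻¹, N.mul_mem (N.mul_mem ha hb) (N.inv_mem (N.mul_mem hb ha)), ?_⟩
  rw [Units.val_mul, Units.val_mul, show (a : Matrix (Fin 4) (Fin 4) F) * b = _ from hab,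
    Matrix.smul_mul, ← Units.val_mul b a, Units.mul_inv]

/-- An anticommuting partner squaring to `-1`. -/
theorem exists_anti_sq_neg (hN : SymType N) {a : GL (Fin 4) F} (ha : a ∈ N)
    (hns : ¬ IsScalarMat (a : Matrix (Fin 4) (Fin 4) F)) :
    ∃ y ∈ N, (y : Matrix (Fin 4) (Fin 4) F) * a = -((a : Matrix (Fin 4) (Fin 4) F) * y) ∧
      (y : Matrix (Fin 4) (Fin 4) F) ^ 2 = -1 := by
  obtain ⟨b, hb, hba⟩ := hN.exists_noncomm hns
  obtain ⟨ε, hε, hab⟩ := exists_sign hN ha hb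
  have hε1 : ε = -1 := hε.resolve_left fun h => hba (by subst h; exact hab.comm_eq.symm)
  subst hε1
  rcases hN.sq hb (nonscalar_of_anti hN.two_ne_zero hab) with h | h
  swap
  · exact ⟨b, hb, (hab.symm (by ring)).anti_eq, h⟩
  have hbb : (b : Matrix (Fin 4) (Fin 4) F) * b = (1 : F) • 1 := by rw [← pow_two, h, one_smul]
  obtain ⟨u, hu, v, hv, hau, hbu, hav, hbv, huv⟩ := exists_pair hN ha hb hab
  obtain ⟨s, hs, huu⟩ := nonscalar_sq hN hu (nonscalar_of_anti hN.two_ne_zero (huv.symm (by ring)))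
  obtain ⟨t, ht, hvv⟩ := nonscalar_sq hN hv (nonscalar_of_anti hN.two_ne_zero huv)
  obtain ⟨w, hw, haw, hbw, hww⟩ : ∃ w ∈ N,
      SComm (1 : F) (a : Matrix (Fin 4) (Fin 4) F) (w : Matrix (Fin 4) (Fin 4) F) ∧
      SComm (1 : F) (b : Matrix (Fin 4) (Fin 4) F) (w : Matrix (Fin 4) (Fin 4) F) ∧
      (w : Matrix (Fin 4) (Fin 4) F) * w = (-1 : F) • 1 := by
    rcases hs with rfl | rfl
    · rcases ht with rfl | rfl
      · refine ⟨u * v, N.mul_mem hu hv, ?_, ?_, ?_⟩
        · simpa using hau.mul hav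
        · simpa using hbu.mul hbv
        · rw [Units.val_mul, sq_mul (huv.symm (by ring)) huu hvv]; simp
      · exact ⟨v, hv, hav, hbv, hvv⟩
    · exact ⟨u, hu, hau, hbu, huu⟩
  refine ⟨b * w, N.mul_mem hb hw, ?_, ?_⟩
  · have := (hab.mul haw).symm (by ring)
    rw [mul_one] at this
    rw [Units.val_mul]
    exact this.anti_eq
  · rw [Units.val_mul, pow_two, sq_mul (hbw.symm (one_mul 1)) hbb hww]; simp

theorem exists_involution (hN : SymType N) :
    ∃ a ∈ N, ¬ IsScalarMat (a : Matrix (Fin 4) (Fin 4) F) ∧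
      (a : Matrix (Fin 4) (Fin 4) F) * a = 1 := by
  obtain ⟨a, ha, b, hb, hab⟩ := exists_anti hN
  have h2 := hN.two_ne_zero
  have hns := nonscalar_of_anti h2 (hab.symm (by ring))
  obtain ⟨s, hs, haa⟩ := nonscalar_sq hN ha hns
  rcases hs with rfl | rfl
  · exact ⟨a, ha, hns, by rw [haa, one_smul]⟩
  obtain ⟨u, hu, v, hv, hau, hbu, hav, hbv, huv⟩ := exists_pair hN ha hb hab
  obtain ⟨t, ht, huu⟩ := nonscalar_sq hN hu (nonscalar_of_anti h2 (huv.symm (by ring)))
  rcases ht with rfl | rfl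
  · exact ⟨u, hu, nonscalar_of_anti h2 (huv.symm (by ring)), by rw [huu, one_smul]⟩
  refine ⟨a * u, N.mul_mem ha hu, nonscalar_of_anti (a := b) h2 ?_, ?_⟩
  · simpa using (hab.symm (by ring)).mul hbu
  · rw [Units.val_mul, sq_mul (hau.symm (one_mul 1)) haa huu]; simp

/-- Scalars in a group of symplectic type preserving `f` are `±1`. -/
theorem scalar_sq (hf : Geo.IsSymplecticForm f) (hNf : N ≤ isom f) {x : GL (Fin 4) F} (hx : x ∈ N)
    {c : F} (hc : (x : Matrix (Fin 4) (Fin 4) F) = c • 1) : c * c = 1 := by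
  obtain ⟨u, hu⟩ := (hf.nondegenerate (Pi.single 0 1) (by simp)).1
  have h1 : f ((x : Matrix (Fin 4) (Fin 4) F) *ᵥ u) ((x : Matrix (Fin 4) (Fin 4) F) *ᵥ Pi.single 0 1) =
      f u (Pi.single 0 1) := hNf hx u _
  rw [hc, Matrix.smul_mulVec, Matrix.smul_mulVec, Matrix.one_mulVec, Matrix.one_mulVec,
    hf.bilinear.smul_left, hf.bilinear.smul_right, ← mul_assoc] at h1
  exact mul_right_cancel₀ hu (h1.trans (one_mul _).symm)

theorem card_center (hf : Geo.IsSymplecticForm f) (hN : SymType N) (hNf : N ≤ isom f) :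
    Nat.card (Subgroup.center N) = 2 := by
  classical
  rw [hN.center_eq]
  let φ : (Geo.scalars (Fin 4) F).subgroupOf N → F :=
    fun x => (((x : N) : GL (Fin 4) F) : Matrix (Fin 4) (Fin 4) F) 0 0
  have hval : ∀ x, (((x : (Geo.scalars (Fin 4) F).subgroupOf N) : N) : GL (Fin 4) F).1 = φ x • 1 := by
    intro x
    obtain ⟨c, hc⟩ := mem_scalars.1 (Subgroup.mem_subgroupOf.1 x.2)
    rw [hc, show φ x = c by simp [φ, hc]]
  have hinj : Function.Injective φ := fun x y h =>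
    Subtype.ext (Subtype.ext (Units.ext (by rw [hval x, hval y, h])))
  have hrange : Set.range φ = ({1, -1} : Set F) := by
    ext c
    constructor
    · rintro ⟨x, rfl⟩
      rcases mul_self_eq_one_iff.1 (scalar_sq hf hNf (x : N).2 (hval x)) with h | h <;> simp [h]
    · rintro (rfl | rfl)
      · exact ⟨⟨1, one_mem _⟩, by simp [φ]⟩
      · obtain ⟨z, hz, hzv⟩ := neg_one_mem hN
        exact ⟨⟨⟨z, hz⟩, Subgroup.mem_subgroupOf.2 (mem_scalars.2 ⟨_, hzv⟩)⟩, by simp [φ, hzv]⟩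
  have h1 : (Set.range φ).ncard = 2 := by
    rw [hrange, Set.ncard_pair fun h => hN.two_ne_zero (by linear_combination h)]
  rwa [Set.ncard_range_of_injective hinj] at h1

theorem symplecticTypeGroup (hN : SymType N) : Geo.IsSymplecticTypeGroup 2 N := by
  obtain ⟨a, ha, hns⟩ := hN.exists_nonscalar
  obtain ⟨y, hy, -, hy2⟩ := exists_anti_sq_neg hN ha hns
  have hy4 : orderOf (⟨y, hy⟩ : N) = 2 ^ 2 := by
    refine orderOf_eq_prime_pow (fun h => ?_) (Subtype.ext (hN.pow_four hy))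
    have h1 := congrArg (fun x : N => ((x : GL (Fin 4) F) : Matrix (Fin 4) (Fin 4) F) 0 0) h
    simp [hy2] at h1
    exact hN.two_ne_zero (by linear_combination -h1)
  refine ⟨Nat.prime_two, hN.isPGroup,
    fun A => hN.cyclic_characteristic_of (fun a ha hns => exists_anti_sq_neg hN ha hns) A, ?_⟩
  refine Nat.dvd_antisymm (Monoid.exponent_dvd_of_forall_pow_eq_one fun x => Subtype.ext ?_) ?_
  · simpa using hN.pow_four x.2
  · have h := Monoid.order_dvd_exponent (⟨y, hy⟩ : N)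
    rw [hy4] at h
    exact h

/-- Two independent commuting involutions of symplectic type cannot both be isometries of `f`. -/
theorem no_commuting_involutions (hf : Geo.IsSymplecticForm f) (hN : SymType N) (hNf : N ≤ isom f)
    {a b : GL (Fin 4) F} (ha : a ∈ N) (hb : b ∈ N) (haa : a * a = 1) (hbb : b * b = 1)
    (hab : a * b = b * a) (has : ¬ IsScalarMat (a : Matrix (Fin 4) (Fin 4) F))
    (hbs : ¬ IsScalarMat (b : Matrix (Fin 4) (Fin 4) F))
    (habs : ¬ IsScalarMat ((a * b : GL (Fin 4) F) : Matrix (Fin 4) (Fin 4) F)) : False := by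
  classical
  set A := (a : Matrix (Fin 4) (Fin 4) F)
  set B := (b : Matrix (Fin 4) (Fin 4) F)
  have hA : A * A = 1 := by rw [← Units.val_mul, haa, Units.val_one]
  have hB : B * B = 1 := by rw [← Units.val_mul, hbb, Units.val_one]
  have hAB : A * B = B * A := by rw [← Units.val_mul, hab, Units.val_mul]
  have hadjA : adj f A = A := by
    rw [adj_iso hf (hNf ha), inv_eq_of_mul_eq_one_right haa]
  have hadjB : adj f B = B := by
    rw [adj_iso hf (hNf hb), inv_eq_of_mul_eq_one_right hbb]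
  let σ : Fin 3 → F × F := ![(1, 1), (1, -1), (-1, 1)]
  let P : Fin 3 → Matrix (Fin 4) (Fin 4) F := fun k => (1 + (σ k).1 • A) * (1 + (σ k).2 • B)
  have hfac : ∀ (M : Matrix (Fin 4) (Fin 4) F), M * M = 1 → ∀ s t : F,
      (1 + s • M) * (1 + t • M) = (1 + s * t) • 1 + (s + t) • M := by
    intro M hM s t
    simp only [add_mul, mul_add, one_mul, mul_one, Matrix.smul_mul, Matrix.mul_smul, hM, smul_smul,
      add_smul, one_smul]
    module
  have hcomm : ∀ s t : F, Commute (1 + s • A) (1 + t • B) := fun s t =>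
    ((Commute.one_left _).add_left (((Commute.one_right A).add_right
      ((show Commute A B from hAB).smul_right t)).smul_left s))
  have hPP : ∀ k l, P k * P l =
      ((1 + (σ k).1 * (σ l).1) • 1 + ((σ k).1 + (σ l).1) • A) *
        ((1 + (σ k).2 * (σ l).2) • 1 + ((σ k).2 + (σ l).2) • B) := by
    intro k l
    show (1 + _ • A) * (1 + _ • B) * ((1 + _ • A) * (1 + _ • B)) = _
    rw [(hcomm _ _).symm.mul_mul_mul_comm, hfac A hA, hfac B hB]
  have hadjP : ∀ k, adj f (P k) = P k := fun k => by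
    simp only [P, adj_mul hf, adj_add hf, adj_one hf, adj_smul hf, hadjA, hadjB]
    exact (hcomm _ _).eq.symm
  have hne : ∀ k, P k ≠ 0 := fun k h0 => by
    have h1 := congrArg Matrix.trace h0
    simp only [P, add_mul, one_mul, mul_add, mul_one, Matrix.smul_mul, Matrix.mul_smul,
      Matrix.trace_add, Matrix.trace_smul, Matrix.trace_one,
      show A.trace = 0 from hN.trace_eq_zero ha has, show B.trace = 0 from hN.trace_eq_zero hb hbs,
      show (A * B).trace = 0 from hN.trace_eq_zero (N.mul_mem ha hb) habs,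
      Matrix.trace_zero, Fintype.card_fin] at h1
    exact hN.four_ne_zero (by simpa using h1)
  have hsq : ∀ k, P k * P k = (4 : F) • P k := fun k => by
    have hσ : (σ k).1 * (σ k).1 = 1 ∧ (σ k).2 * (σ k).2 = 1 := by fin_cases k <;> simp [σ]
    have hdbl : ∀ (M : Matrix (Fin 4) (Fin 4) F) (s : F),
        (1 + (1 : F)) • (1 : Matrix (Fin 4) (Fin 4) F) + (s + s) • M = (2 : F) • (1 + s • M) :=
      fun M s => by module
    rw [hPP, hσ.1, hσ.2, hdbl, hdbl, Matrix.smul_mul, Matrix.mul_smul, smul_smul,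
      show (2 : F) * 2 = 4 by norm_num]
  have horth : ∀ k l, k ≠ l → P k * P l = 0 := fun k l hkl => by
    rw [hPP]
    fin_cases k <;> fin_cases l <;> first | exact absurd rfl hkl | simp [σ]
  have hex : ∀ k, ∃ v x, f (P k *ᵥ v) (P k *ᵥ x) ≠ 0 := by
    intro k
    obtain ⟨v, hv⟩ : ∃ v, P k *ᵥ v ≠ 0 := by
      by_contra hcon
      push Not at hcon
      exact hne k (Matrix.ext_of_mulVec_single fun i => by rw [hcon, Matrix.zero_mulVec])
    obtain ⟨x, hx⟩ := (hf.nondegenerate _ hv).2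
    refine ⟨v, x, ?_⟩
    rw [adj_spec hf, hadjP, Matrix.mulVec_mulVec, hsq, Matrix.smul_mulVec, hf.bilinear.smul_right]
    refine mul_ne_zero hN.four_ne_zero ?_
    rwa [← hadjP, ← adj_spec hf]
  choose v x hvx using hex
  let u : Fin 3 × Fin 2 → (Fin 4 → F) := fun i => P i.1 *ᵥ ((![v i.1, x i.1] : Fin 2 → _) i.2)
  have hu : ∀ i j, i.1 ≠ j.1 → f (u i) (u j) = 0 := fun i j hij => by
    show f (P i.1 *ᵥ _) (P j.1 *ᵥ _) = 0
    rw [adj_spec hf, hadjP, Matrix.mulVec_mulVec, horth _ _ hij, Matrix.zero_mulVec, zero_right hf]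
  have hli : LinearIndependent F u := by
    rw [Fintype.linearIndependent_iff]
    rintro g hg ⟨k, e⟩
    have h1 := congrArg (fun z => f z (u (k, 1 - e))) hg
    simp only [zero_left hf] at h1
    rw [show f (∑ i, g i • u i) (u (k, 1 - e)) = leftMap hf (u (k, 1 - e)) (∑ i, g i • u i) from rfl,
      map_sum, Finset.sum_eq_single (k, e)] at h1
    · rw [map_smul, smul_eq_mul] at h1
      refine (mul_eq_zero.1 h1).resolve_right ?_
      show f (u (k, e)) (u (k, 1 - e)) ≠ 0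
      fin_cases e
      · simpa [u] using hvx k
      · intro h0
        apply hvx k
        rw [hf.skew, neg_eq_zero]
        simpa [u] using h0
    · rintro ⟨l, e'⟩ - hne'
      rw [map_smul]
      show g (l, e') • f (u (l, e')) (u (k, 1 - e)) = 0
      by_cases hlk : l = k
      · subst hlk
        have : e' = 1 - e := by
          have h3 : e' ≠ e := fun h => hne' (by rw [h])
          revert h3
          fin_cases e <;> fin_cases e' <;> simp
        rw [this, hf.alternating, smul_zero]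
      · rw [hu _ _ hlk, smul_zero]
    · simp
  have := hli.fintype_card_le_finrank
  simp [Module.finrank_fintype_fun_eq_card] at this

theorem minusType (hf : Geo.IsSymplecticForm f) (hN : SymType N) (hNf : N ≤ isom f) :
    Geo.IsOfMinusType 2 N := by
  classical
  intro A hab hsq
  haveI := Fintype.ofFinite A
  haveI := Fintype.ofFinite (Subgroup.center N)
  by_contra hcard
  push Not at hcard
  rw [Nat.card_eq_fintype_card] at hcard
  have hval : ∀ x : A, ((x : N) : GL (Fin 4) F) * ((x : N) : GL (Fin 4) F) = 1 := fun x =>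
    congrArg Subtype.val (hsq x x.2)
  have hcz : Fintype.card (Subgroup.center N) = 2 := by
    rw [← Nat.card_eq_fintype_card, card_center hf hN hNf]
  have hscal : ∀ x : A, IsScalarMat (((x : N) : GL (Fin 4) F) : Matrix (Fin 4) (Fin 4) F) →
      (x : N) ∈ Subgroup.center N := fun x hx => by
    rw [hN.center_eq, Subgroup.mem_subgroupOf]
    exact mem_scalars.2 hx
  obtain ⟨a, ha⟩ : ∃ a : A, ¬ IsScalarMat (((a : N) : GL (Fin 4) F) : Matrix (Fin 4) (Fin 4) F) := by
    by_contra hcon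
    push Not at hcon
    have h1 := Fintype.card_le_of_injective (fun x : A => (⟨x, hscal x (hcon x)⟩ : Subgroup.center N))
      fun x y h => Subtype.ext (congrArg (fun z : Subgroup.center N => (z : N)) h)
    omega
  obtain ⟨b, hbs, habs⟩ : ∃ b : A, ¬ IsScalarMat (((b : N) : GL (Fin 4) F) : Matrix (Fin 4) (Fin 4) F) ∧
      ¬ IsScalarMat (((a * b : A) : N) : GL (Fin 4) F).1 := by
    by_contra hcon
    push Not at hcon
    let φ : Subgroup.center N × Fin 2 → N := fun p => (p.1 : N) * (a : N) ^ (p.2 : ℕ)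
    have h1 : Fintype.card A ≤ Fintype.card (Subgroup.center N × Fin 2) := by
      refine Fintype.card_le_of_injective
        (fun x => if h : IsScalarMat (((x : N) : GL (Fin 4) F) : Matrix (Fin 4) (Fin 4) F) then
          ((⟨x, hscal x h⟩ : Subgroup.center N), (0 : Fin 2))
        else ((⟨((a * x : A) : N), hscal _ (hcon x h)⟩ : Subgroup.center N), (1 : Fin 2))) fun x y h => ?_
      dsimp only at h
      split_ifs at h with hx hy hy
      · exact Subtype.ext (congrArg (fun p : Subgroup.center N × Fin 2 => (p.1 : N)) h)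
      · simp at h
      · simp at h
      · have := congrArg (fun p : Subgroup.center N × Fin 2 => (p.1 : N)) h
        exact mul_left_cancel (Subtype.ext this : a * x = a * y)
    rw [Fintype.card_prod, Fintype.card_fin, hcz] at h1
    omega
  have hcomm := congrArg (fun x : A => ((x : N) : GL (Fin 4) F)) (hab.is_comm.comm a b)
  simp only [Subgroup.coe_mul] at hcomm habs
  exact no_commuting_involutions hf hN hNf (a : N).2 (b : N).2 (hval a) (hval b) hcomm ha hbs habs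

/-- The isometry group does not normalise such a group. -/
theorem not_normalized [Fintype F] (hf : Geo.IsSymplecticForm f) (hN : SymType N) (hNf : N ≤ isom f) :
    ¬ isom f ≤ Geo.subgroupNormalizer N := by
  classical
  intro hle
  have h2 := hN.two_ne_zero
  obtain ⟨x, hx, hxs, hxx⟩ := exists_involution hN
  set X := (x : Matrix (Fin 4) (Fin 4) F)
  obtain ⟨u, hu, hu0⟩ : ∃ u, X *ᵥ u = u ∧ u ≠ 0 := by
    by_contra hcon
    push Not at hcon
    refine hxs ⟨-1, Matrix.ext_of_mulVec_single fun i => ?_⟩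
    generalize (Pi.single i (1 : F) : Fin 4 → F) = w
    rw [neg_one_smul, Matrix.neg_mulVec, Matrix.one_mulVec]
    exact eq_neg_of_add_eq_zero_left (hcon _ (by
      rw [Matrix.mulVec_add, Matrix.mulVec_mulVec, hxx, Matrix.one_mulVec, add_comm]))
  obtain ⟨v, hv, hv0⟩ : ∃ v, X *ᵥ v = -v ∧ v ≠ 0 := by
    by_contra hcon
    push Not at hcon
    refine hxs ⟨1, Matrix.ext_of_mulVec_single fun i => ?_⟩
    generalize (Pi.single i (1 : F) : Fin 4 → F) = w
    rw [one_smul, Matrix.one_mulVec]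
    exact sub_eq_zero.1 (hcon _ (by
      rw [Matrix.mulVec_sub, Matrix.mulVec_mulVec, hxx, Matrix.one_mulVec, neg_sub]))
  have huv : f u v = 0 := by
    have h1 : f (X *ᵥ u) (X *ᵥ v) = f u v := hNf hx u v
    rw [hu, hv, neg_right hf] at h1
    exact (mul_eq_zero.1 (show (2 : F) * f u v = 0 by linear_combination -h1)).resolve_left h2
  set z := u + v with hz
  have hxz : X *ᵥ z = u - v := by rw [hz, Matrix.mulVec_add, hu, hv, ← sub_eq_add_neg]
  have hspan : X *ᵥ z ∉ Submodule.span F {z} := by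
    intro hm
    obtain ⟨l, hl⟩ := Submodule.mem_span_singleton.1 hm
    rw [hxz, hz] at hl
    have h1 := congrArg (X *ᵥ ·) hl
    simp only [Matrix.mulVec_smul, Matrix.mulVec_add, Matrix.mulVec_sub, hu, hv] at h1
    have h3 : ((2 : F) * (l - 1)) • u = 0 := by
      calc ((2 : F) * (l - 1)) • u
          = (l • (u + v) - (u - v)) + (l • (u + -v) - (u - -v)) := by module
        _ = 0 := by rw [hl, h1, sub_self, sub_self, add_zero]
    have hl1 : l = 1 :=
      sub_eq_zero.1 ((mul_eq_zero.1 ((smul_eq_zero.1 h3).resolve_right hu0)).resolve_left h2)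
    rw [hl1, one_smul] at hl
    have h4 : (2 : F) • v = 0 := by
      rw [show (2 : F) • v = (u + v) - (u - v) by module, hl, sub_self]
    exact hv0 ((smul_eq_zero.1 h4).resolve_left h2)
  have hz0 : z ≠ 0 := fun h0 => hspan (by rw [h0, Matrix.mulVec_zero]; exact Submodule.zero_mem _)
  obtain ⟨t, ht⟩ := (hf.nondegenerate z hz0).1
  obtain ⟨g, hg, hgu⟩ := exists_sp_transvection hf z 1
  refine hN.transvection_absurd hx (hle hg) (φ := leftMap hf z) (w := (f t z)⁻¹ • t)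
    (fun a => by rw [hgu, one_mul]; rfl) (hf.alternating z) ?_ ?_ hspan
  · show f (X *ᵥ z) z = 0
    rw [hxz, hz, sub_eq_add_neg, hf.bilinear.add_left, hf.bilinear.add_right, hf.bilinear.add_right,
      neg_left hf, neg_left hf, hf.alternating, hf.alternating, huv, hf.skew v u, huv]
    ring
  · show f ((f t z)⁻¹ • t) z = 1
    rw [hf.bilinear.smul_left, inv_mul_cancel₀ ht]

/-- The sixth class. -/
theorem geometric_pauli [Fintype F] (c : Ctx f H) {p : ℕ} (hp : p.Prime) (hq : Fintype.card F = p)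
    {R : Subgroup (GL (Fin 4) F)} (hR : SymType R) (hRf : R ≤ isom f)
    (hle : H ≤ Geo.subgroupNormalizer R) : SGeometric f H := by
  have hodd : Odd (Fintype.card F) := by
    rw [hq]
    refine hp.odd_of_ne_two fun h => hR.two_ne_zero ?_
    subst h
    have := Nat.cast_card_eq_zero F
    rw [hq] at this
    exact_mod_cast this
  exact Or.inr <| Or.inr <| Or.inr <| Or.inr <| Or.inr <| Or.inr <| Or.inl
    ⟨hodd, p, R, hp, hq, symplecticTypeGroup hR, hR.absIrr,
      fun g hg => ⟨1, fun u v => by rw [Units.val_one, one_mul]; exact hRf hg u v⟩,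
      by rw [hR.card_eq, card_center c.form hR hRf], card_center c.form hR hRf,
      minusType c.form hR hRf, c.eq_inf hle (not_normalized c.form hR hRf)⟩

/-- A basis orbit: the group is realised over any subfield containing the needed square roots. -/
theorem exists_combination (F₀ : Subfield F) (h2 : (2 : F) ≠ 0) {s t : F} (hs : s = 1 ∨ s = -1)
    (ht : t = 1 ∨ t = -1) :
    ∃ α β : F, α ∈ F₀ ∧ β ∈ F₀ ∧ α ^ 2 * s + β ^ 2 * t = 1 := by
  classical
  haveI := Fintype.ofFinite F₀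
  have hmem : ∀ r : F, r = 1 ∨ r = -1 → r ∈ F₀ := by
    rintro r (rfl | rfl)
    · exact one_mem _
    · exact neg_mem (one_mem _)
  let s' : F₀ := ⟨s, hmem s hs⟩
  let t' : F₀ := ⟨t, hmem t ht⟩
  have hs0 : s' ≠ 0 := fun h => by
    have h' : s = 0 := congrArg Subtype.val h
    rcases hs with rfl | rfl <;> simp at h'
  have ht0 : t' ≠ 0 := fun h => by
    have h' : t = 0 := congrArg Subtype.val h
    rcases ht with rfl | rfl <;> simp at h'
  have hodd : Fintype.card F₀ % 2 = 1 := by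
    refine FiniteField.odd_card_of_char_ne_two fun hc => h2 ?_
    haveI : CharP F₀ (ringChar F₀) := ringChar.charP F₀
    have h0 : ((ringChar F₀ : ℕ) : F₀) = 0 := CharP.cast_eq_zero F₀ _
    rw [hc] at h0
    have h0' := congrArg F₀.subtype h0
    rwa [map_natCast, map_zero, Nat.cast_ofNat] at h0'
  obtain ⟨α, β, h⟩ := FiniteField.exists_root_sum_quadratic
    (f := Polynomial.C s' * Polynomial.X ^ 2) (g := Polynomial.C t' * Polynomial.X ^ 2 - 1)
    (Polynomial.degree_C_mul_X_pow 2 hs0)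
    (by rw [Polynomial.degree_sub_eq_left_of_degree_lt] <;>
      simp [Polynomial.degree_C_mul_X_pow 2 ht0]) hodd
  simp only [Polynomial.eval_mul, Polynomial.eval_C, Polynomial.eval_pow, Polynomial.eval_X,
    Polynomial.eval_sub, Polynomial.eval_one] at h
  refine ⟨α, β, α.2, β.2, ?_⟩
  have := congrArg Subtype.val h
  simp only [AddMemClass.coe_add, MulMemClass.coe_mul, SubmonoidClass.coe_pow, AddSubgroupClass.coe_sub,
    OneMemClass.coe_one, ZeroMemClass.coe_zero, s', t'] at this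
  linear_combination this

theorem realisable (hf : Geo.IsSymplecticForm f) (hN : SymType N) (hNf : N ≤ isom f)
    (F₀ : Subfield F) : Geo.RealisableOver F₀ (Geo.matrixSet N) := by
  classical
  have h2 := hN.two_ne_zero
  obtain ⟨a, ha, has, haa⟩ := exists_involution hN
  obtain ⟨b, hb, hba⟩ := hN.exists_noncomm has
  obtain ⟨ε, hε, hab⟩ := exists_sign hN ha hb
  have hε1 : ε = -1 := hε.resolve_left fun h => hba (by subst h; exact hab.comm_eq.symm)
  subst hε1
  obtain ⟨τ, hτ, hbb⟩ := nonscalar_sq hN hb (nonscalar_of_anti h2 hab)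
  obtain ⟨y₀, hy₀, z₀, hz₀, hay₀, hby₀, haz₀, hbz₀, hyz₀⟩ := exists_pair hN ha hb hab
  obtain ⟨y, hy, z, hz, hay, hby, haz, hbz, hyz, s, hs, t, ht, hyy, hzz, α, β, hα, hβ, hsum, hβ0⟩ :
      ∃ y ∈ N, ∃ z ∈ N, SComm (1 : F) (a : Matrix (Fin 4) (Fin 4) F) (y : Matrix (Fin 4) (Fin 4) F) ∧
        SComm (1 : F) (b : Matrix (Fin 4) (Fin 4) F) (y : Matrix (Fin 4) (Fin 4) F) ∧
        SComm (1 : F) (a : Matrix (Fin 4) (Fin 4) F) (z : Matrix (Fin 4) (Fin 4) F) ∧
        SComm (1 : F) (b : Matrix (Fin 4) (Fin 4) F) (z : Matrix (Fin 4) (Fin 4) F) ∧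
        SComm (-1 : F) (y : Matrix (Fin 4) (Fin 4) F) (z : Matrix (Fin 4) (Fin 4) F) ∧
        ∃ s : F, (s = 1 ∨ s = -1) ∧ ∃ t : F, (t = 1 ∨ t = -1) ∧
          (y : Matrix (Fin 4) (Fin 4) F) * y = s • 1 ∧ (z : Matrix (Fin 4) (Fin 4) F) * z = t • 1 ∧
          ∃ α β : F, α ∈ F₀ ∧ β ∈ F₀ ∧ α ^ 2 * s + β ^ 2 * t = 1 ∧ β ≠ 0 := by
    obtain ⟨s, hs, hyy⟩ := nonscalar_sq hN hy₀ (nonscalar_of_anti h2 (hyz₀.symm (by ring)))
    obtain ⟨t, ht, hzz⟩ := nonscalar_sq hN hz₀ (nonscalar_of_anti h2 hyz₀)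
    obtain ⟨α, β, hα, hβ, hsum⟩ := exists_combination F₀ h2 hs ht
    by_cases hβ0 : β = 0
    · refine ⟨z₀, hz₀, y₀, hy₀, haz₀, hbz₀, hay₀, hby₀, hyz₀.symm (by ring), t, ht, s, hs, hzz, hyy,
        β, α, hβ, hα, by rw [add_comm]; exact hsum, fun h0 => ?_⟩
      simp [h0, hβ0] at hsum
    · exact ⟨y₀, hy₀, z₀, hz₀, hay₀, hby₀, haz₀, hbz₀, hyz₀, s, hs, t, ht, hyy, hzz, α, β, hα, hβ,
        hsum, hβ0⟩
  set A := (a : Matrix (Fin 4) (Fin 4) F) with hAdef
  set B := (b : Matrix (Fin 4) (Fin 4) F) with hBdef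
  set Y := (y : Matrix (Fin 4) (Fin 4) F) with hYdef
  set Z := (z : Matrix (Fin 4) (Fin 4) F) with hZdef
  -- every element is a scalar times a product of the four generators
  let w : (Fin 2 × Fin 2) × (Fin 2 × Fin 2) → N := fun e =>
    (⟨a, ha⟩ : N) ^ (e.1.1 : ℕ) * (⟨b, hb⟩ : N) ^ (e.1.2 : ℕ) *
      ((⟨y, hy⟩ : N) ^ (e.2.1 : ℕ) * (⟨z, hz⟩ : N) ^ (e.2.2 : ℕ))
  have hwv : ∀ e, ((w e : GL (Fin 4) F) : Matrix (Fin 4) (Fin 4) F) =
      A ^ (e.1.1 : ℕ) * B ^ (e.1.2 : ℕ) * (Y ^ (e.2.1 : ℕ) * Z ^ (e.2.2 : ℕ)) := fun e => by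
    simp [w, A, B, Y, Z]
  have h11 : (-1 : F) * -1 = 1 := by ring
  have h1 : (1 : F) * 1 = 1 := one_mul 1
  have hgen : ∀ e, SComm ((-1 : F) ^ (e.1.2 : ℕ)) A (w e : GL (Fin 4) F).1 ∧
      SComm ((-1 : F) ^ (e.1.1 : ℕ)) B (w e : GL (Fin 4) F).1 ∧
      SComm ((-1 : F) ^ (e.2.2 : ℕ)) Y (w e : GL (Fin 4) F).1 ∧
      SComm ((-1 : F) ^ (e.2.1 : ℕ)) Z (w e : GL (Fin 4) F).1 := by
    intro e
    rw [hwv]
    refine ⟨?_, ?_, ?_, ?_⟩
    · simpa using (((SComm.self A).pow _).mul (hab.pow (e.1.2 : ℕ))).mul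
        ((hay.pow (e.2.1 : ℕ)).mul (haz.pow (e.2.2 : ℕ)))
    · simpa using (((hab.symm h11).pow (e.1.1 : ℕ)).mul ((SComm.self B).pow _)).mul
        ((hby.pow (e.2.1 : ℕ)).mul (hbz.pow (e.2.2 : ℕ)))
    · simpa using (((hay.symm h1).pow (e.1.1 : ℕ)).mul ((hby.symm h1).pow (e.1.2 : ℕ))).mul
        (((SComm.self Y).pow _).mul (hyz.pow (e.2.2 : ℕ)))
    · simpa using (((haz.symm h1).pow (e.1.1 : ℕ)).mul ((hbz.symm h1).pow (e.1.2 : ℕ))).mul
        (((hyz.symm h11).pow (e.2.1 : ℕ)).mul ((SComm.self Z).pow _))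
  have hsurj : Function.Surjective (fun e => ((w e : N) : Quot N)) := by
    haveI := Fintype.ofFinite (Quot N)
    refine ((Fintype.bijective_iff_injective_and_card _).2 ⟨fun e e' he => ?_, ?_⟩).2
    · have hd : (w e)⁻¹ * w e' ∈ (Geo.scalars (Fin 4) F).subgroupOf N := QuotientGroup.eq.1 he
      obtain ⟨c, hc⟩ := mem_scalars.1 (Subgroup.mem_subgroupOf.1 hd)
      have hsc : ((w e' : GL (Fin 4) F) : Matrix (Fin 4) (Fin 4) F) =
          c • ((w e : GL (Fin 4) F) : Matrix (Fin 4) (Fin 4) F) := by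
        rw [show (w e' : GL (Fin 4) F) = (w e : GL (Fin 4) F) * ((w e)⁻¹ * w e' : N) by simp,
          Units.val_mul, hc, Matrix.mul_smul, mul_one]
      have hpar : ∀ (g : GL (Fin 4) F) (i i' : Fin 2),
          SComm ((-1 : F) ^ (i : ℕ)) g.1 (w e : GL (Fin 4) F).1 →
          SComm ((-1 : F) ^ (i' : ℕ)) g.1 (w e' : GL (Fin 4) F).1 → i = i' := by
        intro g i i' hi hi'
        have hi2 : SComm ((-1 : F) ^ (i : ℕ)) g.1 (w e' : GL (Fin 4) F).1 := by
          rw [SComm, hsc, Matrix.mul_smul, show g.1 * (w e : GL (Fin 4) F).1 = _ from hi,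
            Matrix.smul_mul, smul_comm]
        have := sign_unique hi2 hi'
        fin_cases i <;> fin_cases i'
        · rfl
        · exact absurd (by linear_combination (norm := norm_num) this) h2
        · exact absurd (by linear_combination (norm := norm_num) -this) h2
        · rfl
      obtain ⟨g1, g2, g3, g4⟩ := hgen e
      obtain ⟨g1', g2', g3', g4'⟩ := hgen e'
      exact Prod.ext (Prod.ext (hpar b _ _ g2 g2') (hpar a _ _ g1 g1'))
        (Prod.ext (hpar z _ _ g4 g4') (hpar y _ _ g3 g3'))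
    · rw [← Nat.card_eq_fintype_card (α := Quot N), hN.card_quot]
      simp
  -- the common fixed vector of `A` and `M`
  set M := α • Y + β • Z with hMdef
  have hMM : M * M = 1 := by
    rw [hMdef]
    simp only [add_mul, mul_add, Matrix.smul_mul, Matrix.mul_smul, hyy, hzz, hyz.anti_eq,
      smul_smul, smul_neg]
    match_scalars <;> first | ring1 | linear_combination hsum
  have hAM : A * M = M * A := by
    rw [hMdef, mul_add, add_mul, Matrix.mul_smul, Matrix.mul_smul, Matrix.smul_mul, Matrix.smul_mul,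
      hay.comm_eq, haz.comm_eq]
  obtain ⟨v₀, hv₀⟩ : ∃ v, ((1 + A) * (1 + M)) *ᵥ v ≠ 0 := by
    by_contra hcon
    push Not at hcon
    have h0 : (1 + A) * (1 + M) = 0 :=
      Matrix.ext_of_mulVec_single fun k => by rw [hcon, Matrix.zero_mulVec]
    have hns : ∀ (g g' : GL (Fin 4) F),
        SComm (-1 : F) (g' : Matrix (Fin 4) (Fin 4) F) (g : Matrix (Fin 4) (Fin 4) F) →
        SComm (1 : F) (g' : Matrix (Fin 4) (Fin 4) F) A →
        ¬ IsScalarMat ((a * g : GL (Fin 4) F) : Matrix (Fin 4) (Fin 4) F) := fun g g' hg hg' =>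
      nonscalar_of_anti (a := g') h2 (by rw [Units.val_mul]; simpa using hg'.mul hg)
    have e1 := congrArg Matrix.trace h0
    simp only [hMdef, add_mul, one_mul, mul_add, mul_one, Matrix.mul_smul, Matrix.trace_add,
      Matrix.trace_smul, Matrix.trace_one, hAdef, hYdef, hZdef, ← Units.val_mul, Matrix.trace_zero,
      Fintype.card_fin, hN.trace_eq_zero ha has,
      hN.trace_eq_zero hy (nonscalar_of_anti h2 (hyz.symm h11)),
      hN.trace_eq_zero hz (nonscalar_of_anti h2 hyz),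
      hN.trace_eq_zero (N.mul_mem ha hy) (hns y z (hyz.symm h11) (haz.symm h1)),
      hN.trace_eq_zero (N.mul_mem ha hz) (hns z y hyz (hay.symm h1))] at e1
    exact hN.four_ne_zero (by simpa using e1)
  set e := ((1 + A) * (1 + M)) *ᵥ v₀ with hedef
  have hAe : A *ᵥ e = e := by
    rw [hedef, Matrix.mulVec_mulVec, ← mul_assoc, mul_add A 1, mul_one, haa, add_comm A 1]
  have hMe : M *ᵥ e = e := by
    rw [hedef, Matrix.mulVec_mulVec, ← mul_assoc,
      ((Commute.one_right M).add_right (show Commute M A from hAM.symm)).eq, mul_assoc,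
      mul_add M 1, mul_one, hMM, add_comm M 1]
  have hZe : Z *ᵥ e = β⁻¹ • e - (β⁻¹ * α) • (Y *ᵥ e) := by
    conv_rhs => arg 1; rw [← hMe, hMdef, Matrix.add_mulVec, Matrix.smul_mulVec, Matrix.smul_mulVec]
    rw [smul_add, smul_smul, smul_smul, inv_mul_cancel₀ hβ0, one_smul, add_sub_cancel_left]
  -- the lattice
  let v : Fin 4 → (Fin 4 → F) := ![e, Y *ᵥ e, B *ᵥ e, B *ᵥ (Y *ᵥ e)]
  let L := Submodule.span F₀ (Set.range v)
  have hv : ∀ i, v i ∈ L := fun i => Submodule.subset_span ⟨i, rfl⟩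
  have hsm : ∀ {r : F} {u : Fin 4 → F}, r ∈ F₀ → u ∈ L → r • u ∈ L := fun {r u} hr hu =>
    L.smul_mem (⟨r, hr⟩ : F₀) hu
  have hLmap : ∀ T : Matrix (Fin 4) (Fin 4) F, (∀ i, T *ᵥ v i ∈ L) → ∀ u ∈ L, T *ᵥ u ∈ L := by
    intro T hT u hu
    induction hu using Submodule.span_induction with
    | mem x hx => obtain ⟨i, rfl⟩ := hx; exact hT i
    | zero => rw [Matrix.mulVec_zero]; exact L.zero_mem
    | add x y _ _ h h' => rw [Matrix.mulVec_add]; exact L.add_mem h h'
    | smul r x _ h =>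
      rw [show r • x = (r : F) • x from rfl, Matrix.mulVec_smul]
      exact hsm r.2 h
  have hsgnmem : ∀ r : F, r = 1 ∨ r = -1 → r ∈ F₀ := by
    rintro r (rfl | rfl)
    · exact one_mem _
    · exact neg_mem (one_mem _)
  have hAYe : A *ᵥ (Y *ᵥ e) = Y *ᵥ e := by
    rw [Matrix.mulVec_mulVec, hay.comm_eq, ← Matrix.mulVec_mulVec, hAe]
  have hYYe : Y *ᵥ (Y *ᵥ e) = s • e := by
    rw [Matrix.mulVec_mulVec, hyy, Matrix.smul_mulVec, Matrix.one_mulVec]
  have hZYe : Z *ᵥ (Y *ᵥ e) = -(β⁻¹ • (Y *ᵥ e) - (β⁻¹ * α) • (s • e)) := by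
    rw [Matrix.mulVec_mulVec, (hyz.symm h11).anti_eq, Matrix.neg_mulVec, ← Matrix.mulVec_mulVec, hZe,
      Matrix.mulVec_sub, Matrix.mulVec_smul, Matrix.mulVec_smul, hYYe]
  have hAB' : ∀ u, A *ᵥ (B *ᵥ u) = -(B *ᵥ (A *ᵥ u)) := fun u => by
    rw [Matrix.mulVec_mulVec, hab.anti_eq, Matrix.neg_mulVec, ← Matrix.mulVec_mulVec]
  have hAL : ∀ u ∈ L, A *ᵥ u ∈ L := hLmap A fun i => by
    fin_cases i
    · show A *ᵥ e ∈ L
      rw [hAe]; exact hv 0
    · show A *ᵥ (Y *ᵥ e) ∈ L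
      rw [hAYe]; exact hv 1
    · show A *ᵥ (B *ᵥ e) ∈ L
      rw [hAB', hAe]; exact L.neg_mem (hv 2)
    · show A *ᵥ (B *ᵥ (Y *ᵥ e)) ∈ L
      rw [hAB', hAYe]; exact L.neg_mem (hv 3)
  have hBL : ∀ u ∈ L, B *ᵥ u ∈ L := hLmap B fun i => by
    fin_cases i
    · exact hv 2
    · exact hv 3
    · show B *ᵥ (B *ᵥ e) ∈ L
      rw [Matrix.mulVec_mulVec, hbb, Matrix.smul_mulVec, Matrix.one_mulVec]
      exact hsm (hsgnmem τ hτ) (hv 0)
    · show B *ᵥ (B *ᵥ (Y *ᵥ e)) ∈ L
      rw [Matrix.mulVec_mulVec, hbb, Matrix.smul_mulVec, Matrix.one_mulVec]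
      exact hsm (hsgnmem τ hτ) (hv 1)
  have hBc : ∀ T : Matrix (Fin 4) (Fin 4) F, B * T = T * B → T *ᵥ e ∈ L → T *ᵥ (Y *ᵥ e) ∈ L →
      ∀ u ∈ L, T *ᵥ u ∈ L := fun T hBT h0 h1' => hLmap T fun i => by
    fin_cases i
    · exact h0
    · exact h1'
    · show T *ᵥ (B *ᵥ e) ∈ L
      rw [Matrix.mulVec_mulVec, ← hBT, ← Matrix.mulVec_mulVec]
      exact hBL _ h0
    · show T *ᵥ (B *ᵥ (Y *ᵥ e)) ∈ L
      rw [Matrix.mulVec_mulVec, ← hBT, ← Matrix.mulVec_mulVec]
      exact hBL _ h1'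
  have hYL := hBc Y hby.comm_eq (hv 1) (by rw [hYYe]; exact hsm (hsgnmem s hs) (hv 0))
  have hZL := hBc Z hbz.comm_eq
    (by rw [hZe]; exact L.sub_mem (hsm (inv_mem hβ) (hv 0)) (hsm (mul_mem (inv_mem hβ) hα) (hv 1)))
    (by
      rw [hZYe]
      exact L.neg_mem (L.sub_mem (hsm (inv_mem hβ) (hv 1))
        (hsm (mul_mem (inv_mem hβ) hα) (hsm (hsgnmem s hs) (hv 0)))))
  have hpowL : ∀ (T : Matrix (Fin 4) (Fin 4) F), (∀ u ∈ L, T *ᵥ u ∈ L) → ∀ (n : ℕ), ∀ u ∈ L,
      (T ^ n) *ᵥ u ∈ L := by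
    intro T hT n
    induction n with
    | zero => intro u hu; rwa [pow_zero, Matrix.one_mulVec]
    | succ n ih => intro u hu; rw [pow_succ, ← Matrix.mulVec_mulVec]; exact ih _ (hT u hu)
  have hall : ∀ x ∈ N, ∀ u ∈ L, (x : Matrix (Fin 4) (Fin 4) F) *ᵥ u ∈ L := by
    intro x hx u hu
    obtain ⟨i, hi⟩ := hsurj ((⟨x, hx⟩ : N) : Quot N)
    obtain ⟨c, hc⟩ := mem_scalars.1 (Subgroup.mem_subgroupOf.1 (QuotientGroup.eq.1 hi))
    have hc1 := scalar_sq hf hNf (N.mul_mem (N.inv_mem (w i).2) hx) (by simpa using hc)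
    rw [show x = (w i : GL (Fin 4) F) * ((w i : GL (Fin 4) F)⁻¹ * x) by simp, Units.val_mul,
      show (((w i : GL (Fin 4) F)⁻¹ * x : GL (Fin 4) F) : Matrix (Fin 4) (Fin 4) F) = c • 1 by
        simpa using hc,
      Matrix.mul_smul, mul_one, Matrix.smul_mulVec, hwv, ← Matrix.mulVec_mulVec, ← Matrix.mulVec_mulVec,
      ← Matrix.mulVec_mulVec]
    exact hsm (hsgnmem c (mul_self_eq_one_iff.1 hc1))
      (hpowL A hAL _ _ (hpowL B hBL _ _ (hpowL Y hYL _ _ (hpowL Z hZL _ _ hu))))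
  have hLF : (L : Set (Fin 4 → F)) ⊆ Submodule.span F (Set.range v) := fun u hu =>
    Submodule.span_le_restrictScalars F₀ F (Set.range v) hu
  have htop : Submodule.span F (Set.range v) = ⊤ := by
    refine (irr_iff.1 hN.absIrr.1 _ fun x hx u hu => ?_).resolve_left fun h0 => ?_
    · induction hu using Submodule.span_induction with
      | mem u hu => obtain ⟨i, rfl⟩ := hu; exact hLF (hall x hx _ (hv i))
      | zero => rw [Matrix.mulVec_zero]; exact Submodule.zero_mem _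
      | add u u' _ _ h h' => rw [Matrix.mulVec_add]; exact Submodule.add_mem _ h h'
      | smul r u _ h => rw [Matrix.mulVec_smul]; exact Submodule.smul_mem _ r h
    · exact hv₀ ((Submodule.mem_bot F).1 (h0 ▸ Submodule.subset_span ⟨0, rfl⟩))
  let bs : Module.Basis (Fin 4) F (Fin 4 → F) :=
    basisOfTopLeSpanOfCardEqFinrank v htop.ge (by simp)
  have hbs : ⇑bs = v := coe_basisOfTopLeSpanOfCardEqFinrank v htop.ge _
  refine realisableOver_of_basis bs fun x hx i j => ?_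
  obtain ⟨c, hc⟩ := (Submodule.mem_span_range_iff_exists_fun F₀).1 (hall x hx _ (hv j))
  rw [show bs j = v j by rw [hbs], ← hc]
  simp only [map_sum, Finsupp.finsetSum_apply]
  refine sum_mem fun k _ => ?_
  rw [show c k • v k = (c k : F) • bs k by rw [hbs]; rfl, map_smul, Finsupp.smul_apply,
    Module.Basis.repr_self, smul_eq_mul, Finsupp.single_apply]
  split
  · rw [mul_one]; exact (c k).2
  · rw [mul_zero]; exact zero_mem _

end Cfsg.Agent.AschbacherFour.Sp
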