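import Cfsg.Agent.Lib.AschbacherFour.Sp.Field
import Cfsg.Agent.Lib.AschbacherFour.UnitarySimilitude

/-!
Subgroups of the symplectic group of dimension four consisting of similitudes of a second form.
-/

set_option autoImplicit false

namespace Cfsg.Agent.AschbacherFour.Sp

open Matrix Aschbacher
open scoped MatrixGroups

variable {F : Type*} [Field F] [Fintype F] {f : (Fin 4 → F) → (Fin 4 → F) → F}
  {H A : Subgroup (GL (Fin 4) F)}

/-- A matrix squaring to a scalar, normalised up to sign. -/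
theorem geometric_involutive (c : Ctx f H) (hirr : Irr H) (h2 : (2 : F) ≠ 0)
    {M : Matrix (Fin 4) (Fin 4) F} {r : F} (hr0 : r ≠ 0) (hMM : M * M = r • 1)
    (hadj : adj f M = M ∨ adj f M = -M)
    (hcomm : ∀ g ∈ H, (g : Matrix (Fin 4) (Fin 4) F) * M = M * g ∨
      (g : Matrix (Fin 4) (Fin 4) F) * M = -(M * g))
    {g₀ : GL (Fin 4) F} (hg₀ : g₀ ∈ H)
    (hanti : (g₀ : Matrix (Fin 4) (Fin 4) F) * M = -(M * g₀)) : SGeometric f H := by
  classical
  have hf := c.form
  have hns : ∀ a : F, M ≠ a • 1 := by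
    intro a hM
    have h1 := hanti
    rw [hM, Matrix.mul_smul, Matrix.smul_mul, mul_one, one_mul] at h1
    have h3 : ((2 : F) * a) • (g₀ : Matrix (Fin 4) (Fin 4) F) = 0 := by
      rw [mul_smul, two_smul]; nth_rewrite 1 [h1]; exact neg_add_cancel _
    have ha : a = 0 := (mul_eq_zero.1 ((smul_eq_zero.1 h3).resolve_right (Units.ne_zero g₀))).resolve_left h2
    rw [hM, ha, zero_smul, zero_mul] at hMM
    exact hr0 (smul_one_inj (by rw [zero_smul]; exact hMM.symm))
  by_cases hsq : ∃ s, s * s = r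
  · -- two planes
    obtain ⟨s, hs⟩ := hsq
    have hs0 : s ≠ 0 := fun h0 => hr0 (by rw [← hs, h0, zero_mul])
    let E : Fin 2 → Submodule F (Fin 4 → F) :=
      fun i => LinearMap.ker (Matrix.toLin' M - (![s, -s] i) • LinearMap.id)
    have hmem : ∀ {i : Fin 2} {v}, v ∈ E i ↔ M *ᵥ v = (![s, -s] i) • v := fun {i v} => by
      simp [E, sub_eq_zero]
    have hm0 : ∀ v, v ∈ E 0 ↔ M *ᵥ v = s • v := fun v => by rw [hmem]; rfl
    have hm1 : ∀ v, v ∈ E 1 ↔ M *ᵥ v = (-s) • v := fun v => by rw [hmem]; rfl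
    have hMv : ∀ v, M *ᵥ (M *ᵥ v) = (s * s) • v := fun v => by
      rw [Matrix.mulVec_mulVec, hMM, hs, Matrix.smul_mulVec, Matrix.one_mulVec]
    have hdis : ∀ v, v ∈ E 0 → v ∈ E 1 → v = 0 := fun v h0 h1 => by
      have := ((hm0 v).1 h0).symm.trans ((hm1 v).1 h1)
      rw [neg_smul, eq_neg_iff_add_eq_zero, ← two_smul F, smul_smul] at this
      exact (smul_eq_zero.1 this).resolve_left (mul_ne_zero h2 hs0)
    have hsup : E 0 ⊔ E 1 = ⊤ := eq_top_iff.2 fun v _ => by
      refine Submodule.mem_sup.2 ⟨(2 * s)⁻¹ • (M *ᵥ v + s • v), (hm0 _).2 ?_,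
        -((2 * s)⁻¹ • (M *ᵥ v - s • v)), (hm1 _).2 ?_, ?_⟩
      · rw [Matrix.mulVec_smul, Matrix.mulVec_add, Matrix.mulVec_smul, hMv]
        module
      · rw [Matrix.mulVec_neg, Matrix.mulVec_smul, Matrix.mulVec_sub, Matrix.mulVec_smul, hMv]
        module
      · rw [← sub_eq_add_neg, ← smul_sub, show M *ᵥ v + s • v - (M *ᵥ v - s • v) = (2 * s) • v by module,
          smul_smul, inv_mul_cancel₀ (mul_ne_zero h2 hs0), one_smul]
    have hsw : ∀ g : GL (Fin 4) F, (g : Matrix (Fin 4) (Fin 4) F) * M = -(M * g) →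
        ∀ i, ∀ v ∈ E i, (g : Matrix (Fin 4) (Fin 4) F) *ᵥ v ∈ E (Equiv.swap 0 1 i) := by
      intro g hg i v hv
      refine hmem.2 ?_
      rw [Matrix.mulVec_mulVec, show M * (g : Matrix (Fin 4) (Fin 4) F) = -((g : Matrix (Fin 4) (Fin 4) F) * M) by
        rw [hg, neg_neg], Matrix.neg_mulVec, ← Matrix.mulVec_mulVec, hmem.1 hv, Matrix.mulVec_smul]
      fin_cases i <;> simp
    have himg : ∀ g ∈ H, ∃ π : Equiv.Perm (Fin 2), ∀ i, ∀ v ∈ E i,
        (g : Matrix (Fin 4) (Fin 4) F) *ᵥ v ∈ E (π i) := by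
      intro g hg
      rcases hcomm g hg with h1 | h1
      · refine ⟨1, fun i v hv => hmem.2 ?_⟩
        rw [Matrix.mulVec_mulVec, ← h1, ← Matrix.mulVec_mulVec, hmem.1 hv, Matrix.mulVec_smul]
        rfl
      · exact ⟨Equiv.swap 0 1, hsw g h1⟩
    have hd : ∀ i, Module.finrank F (E i) = 2 := by
      have key : ∀ i j : Fin 2, (∀ v ∈ E i, (g₀ : Matrix (Fin 4) (Fin 4) F) *ᵥ v ∈ E j) →
          Module.finrank F (E i) ≤ Module.finrank F (E j) := fun i j hij => by
        rw [← finrank_translate g₀ (E i)]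
        refine Submodule.finrank_mono fun w hw => ?_
        obtain ⟨v, hv, rfl⟩ := mem_translate.1 hw
        exact hij v hv
      have h01 := key 0 1 (hsw g₀ hanti 0)
      have h10 := key 1 0 (hsw g₀ hanti 1)
      have h1 := Submodule.finrank_sup_add_finrank_inf_eq (E 0) (E 1)
      rw [hsup, finrank_top, (Submodule.eq_bot_iff (E 0 ⊓ E 1)).2 (fun v hv => hdis v hv.1 hv.2),
        finrank_bot, Module.finrank_fintype_fun_eq_card, Fintype.card_fin] at h1
      intro i
      fin_cases i <;> simp <;> omega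
    have hD : Geo.IsMDecomposition 2 E := by
      have hE : E = ![E 0, E 1] := funext fun i => by fin_cases i <;> rfl
      rw [hE]
      exact mdecomp (hd 0) (hd 1) ((Submodule.eq_bot_iff _).2 fun v hv => hdis v hv.1 hv.2)
    have hH := le_decompositionStabilizer hD himg
    rcases hadj with hadj | hadj
    · refine geometric_orth_planes c (nondeg_of_orth hf hD fun u hu v hv => ?_) hH
      have h1 := adj_spec hf M u v
      rw [hadj, (hm0 u).1 hu, (hm1 v).1 hv, hf.bilinear.smul_left, hf.bilinear.smul_right] at h1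
      exact (mul_eq_zero.1 (show (2 * s) * f u v = 0 by linear_combination h1)).resolve_left
        (mul_ne_zero h2 hs0)
    · refine geometric_ts_planes c hD (fun i u hu v hv => ?_) hH
      have h1 := adj_spec hf M u v
      rw [hadj, hmem.1 hu, Matrix.neg_mulVec, hmem.1 hv, hf.bilinear.smul_left, neg_right hf,
        hf.bilinear.smul_right] at h1
      refine (mul_eq_zero.1 (show (2 * ![s, -s] i) * f u v = 0 by linear_combination h1)).resolve_left ?_
      exact mul_ne_zero h2 (by fin_cases i <;> simp [hs0])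
  · -- a quadratic field
    push Not at hsq
    let K : Subalgebra F (Matrix (Fin 4) (Fin 4) F) :=
      { carrier := {x | ∃ a b : F, x = a • 1 + b • M}
        mul_mem' := by
          rintro _ _ ⟨a, b, rfl⟩ ⟨a', b', rfl⟩
          refine ⟨a * a' + b * b' * r, a * b' + b * a', ?_⟩
          simp only [add_mul, mul_add, Matrix.smul_mul, Matrix.mul_smul, one_mul, mul_one, hMM]
          module
        one_mem' := ⟨1, 0, by simp⟩
        add_mem' := by
          rintro _ _ ⟨a, b, rfl⟩ ⟨a', b', rfl⟩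
          exact ⟨a + a', b + b', by module⟩
        zero_mem' := ⟨0, 0, by simp⟩
        algebraMap_mem' := fun a => ⟨a, 0, by simp [Algebra.algebraMap_eq_smul_one]⟩ }
    have hli : LinearIndependent F ![(1 : Matrix (Fin 4) (Fin 4) F), M] := by
      rw [LinearIndependent.pair_iff]
      intro a b hab
      by_cases hb : b = 0
      · subst hb
        rw [zero_smul, add_zero, smul_eq_zero] at hab
        exact ⟨hab.resolve_right one_ne_zero, rfl⟩
      · refine absurd ?_ (hns (-(b⁻¹ * a)))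
        rw [neg_smul, mul_smul, eq_neg_of_add_eq_zero_left hab, smul_neg, neg_neg, smul_smul,
          inv_mul_cancel₀ hb, one_smul]
    have hK : Geo.IsFieldSubalgebra 2 K := by
      refine ⟨?_, ?_, ?_⟩
      · rintro _ ⟨a, b, rfl⟩ _ ⟨a', b', rfl⟩
        simp only [add_mul, mul_add, Matrix.smul_mul, Matrix.mul_smul, one_mul, mul_one, hMM]
        module
      · rintro _ ⟨a, b, rfl⟩ h0
        have hd : a * a - b * b * r ≠ 0 := by
          intro hd
          by_cases hb : b = 0
          · subst hb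
            have ha : a = 0 := mul_self_eq_zero.1 (by linear_combination hd)
            exact h0 (by simp [ha])
          · exact hsq (a / b) (by field_simp; linear_combination hd)
        refine ⟨_, ⟨(a * a - b * b * r)⁻¹ * a, -((a * a - b * b * r)⁻¹ * b), rfl⟩, ?_⟩
        simp only [add_mul, mul_add, Matrix.smul_mul, Matrix.mul_smul, one_mul, mul_one, hMM, smul_smul]
        match_scalars
        · linear_combination inv_mul_cancel₀ hd
        · ring
      · have hspan : Subalgebra.toSubmodule K =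
            Submodule.span F (Set.range ![(1 : Matrix (Fin 4) (Fin 4) F), M]) := by
          refine le_antisymm ?_ (Submodule.span_le.2 ?_)
          · rintro _ ⟨a, b, rfl⟩
            exact add_mem (Submodule.smul_mem _ _ (Submodule.subset_span ⟨0, rfl⟩))
              (Submodule.smul_mem _ _ (Submodule.subset_span ⟨1, rfl⟩))
          · rintro _ ⟨l, rfl⟩
            fin_cases l
            · exact ⟨1, 0, by simp⟩
            · exact ⟨0, 1, by simp⟩
        show Module.finrank F (Subalgebra.toSubmodule K) = 2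
        rw [hspan, finrank_span_eq_card hli, Fintype.card_fin]
    refine geometric_field c hirr hK (fun g hg => mem_subalgebraNormalizer ?_) ?_
    · rintro _ ⟨a, b, rfl⟩
      rcases hcomm g hg with h1 | h1
      · refine ⟨a, b, ?_⟩
        rw [mul_add, add_mul, Matrix.mul_smul, Matrix.smul_mul, mul_one, Units.mul_inv, Matrix.mul_smul,
          Matrix.smul_mul, h1, mul_assoc, Units.mul_inv, mul_one]
      · refine ⟨a, -b, ?_⟩
        rw [mul_add, add_mul, Matrix.mul_smul, Matrix.smul_mul, mul_one, Units.mul_inv, Matrix.mul_smul,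
          Matrix.smul_mul, h1, neg_mul, mul_assoc, Units.mul_inv, mul_one, smul_neg, neg_smul]
    · rintro _ ⟨a, b, rfl⟩
      rw [adj_add hf, adj_smul hf, adj_smul hf, adj_one hf]
      rcases hadj with h | h
      · exact ⟨a, b, by rw [h]⟩
      · exact ⟨a, -b, by rw [h, smul_neg, neg_smul]⟩

/-- Similitudes of a symmetric form in odd characteristic. -/
theorem geometric_symmetric (c : Ctx f H) (hHa : AbsIrr H) (h2 : (2 : F) ≠ 0)
    {B : (Fin 4 → F) → (Fin 4 → F) → F} (hB : Geo.IsBilinearForm B)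
    (hnd : Geo.IsNondegenerateForm B) (hsym : ∀ u v, B u v = B v u)
    (hle : H ≤ Geo.similarityGroup B) : SGeometric f H := by
  classical
  have hf := c.form
  obtain ⟨L, hL⟩ := (IsSesq.of_bilinear hf.bilinear).exists_matrix hf.nondegenerate
    (IsSesq.of_bilinear hB)
  have hadjL : adj f L = -L := adj_eq hf fun u v => by
    rw [← hL, hsym, hL, Matrix.neg_mulVec, neg_right hf, hf.skew]
  have hinj : ∀ v, L *ᵥ v = 0 → v = 0 := fun v hv => by
    by_contra h0
    obtain ⟨x, hx⟩ := (hnd v h0).2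
    exact hx (by rw [hL, hv, zero_left hf])
  have hLne : ∀ n : ℕ, L ^ n ≠ 0 := by
    intro n
    induction n with
    | zero => simp
    | succ n ih =>
      intro h0
      refine ih (Matrix.ext_of_mulVec_single fun i => ?_)
      rw [Matrix.zero_mulVec]
      refine hinj _ ?_
      rw [Matrix.mulVec_mulVec, ← pow_succ', h0, Matrix.zero_mulVec]
  have hmul : ∀ g ∈ H, ∃ a : F, a ^ 4 = 1 ∧
      L * (g : Matrix (Fin 4) (Fin 4) F) = a • ((g : Matrix (Fin 4) (Fin 4) F) * L) := by
    intro g hg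
    obtain ⟨a, ha⟩ := hle hg
    refine ⟨a, multiplier_pow_four hB hnd (det_eq_one (c.le_specialLinear hg)) ha, ?_⟩
    refine Matrix.ext_of_mulVec_single fun i => eq_of_form hf fun u => ?_
    generalize (Pi.single i (1 : F) : Fin 4 → F) = w
    obtain ⟨u', rfl⟩ : ∃ u', (g : Matrix (Fin 4) (Fin 4) F) *ᵥ u' = u := ⟨_, mulVec_inv g u⟩
    rw [hf.skew]
    conv_rhs => rw [hf.skew]
    congr 1
    rw [← Matrix.mulVec_mulVec, ← hL, ha, hL, Matrix.smul_mulVec, ← Matrix.mulVec_mulVec,
      hf.bilinear.smul_left, c.iso hg]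
  choose! a ha4 haL using hmul
  have hpow : ∀ g ∈ H, ∀ n : ℕ,
      L ^ n * (g : Matrix (Fin 4) (Fin 4) F) = (a g) ^ n • ((g : Matrix (Fin 4) (Fin 4) F) * L ^ n) := by
    intro g hg n
    induction n with
    | zero => simp
    | succ n ih =>
      rw [pow_succ L, mul_assoc, haL g hg, Matrix.mul_smul, ← mul_assoc, ih, Matrix.smul_mul, smul_smul,
        mul_assoc, ← pow_succ, ← pow_succ']
  have hscal : ∀ n : ℕ, (∀ g ∈ H, (a g) ^ n = 1) → ∃ r : F, r ≠ 0 ∧ L ^ n = r • 1 := by
    intro n hn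
    obtain ⟨r, hr⟩ := hHa.2 (L ^ n) (by
      rintro s ⟨g, hg, rfl⟩
      rw [hpow g hg, hn g hg, one_smul])
    exact ⟨r, fun h0 => hLne n (by rw [hr, h0, zero_smul]), hr⟩
  have hsign : ∀ n : ℕ, (∀ g ∈ H, (a g) ^ n = 1 ∨ (a g) ^ n = -1) → ∀ g ∈ H,
      (g : Matrix (Fin 4) (Fin 4) F) * L ^ n = L ^ n * g ∨
      (g : Matrix (Fin 4) (Fin 4) F) * L ^ n = -(L ^ n * g) := by
    intro n hn g hg
    rcases hn g hg with h | h
    · left; rw [hpow g hg, h, one_smul]
    · right; rw [hpow g hg, h, neg_one_smul, neg_neg]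
  have hadjn : ∀ n : ℕ, adj f (L ^ n) = (-1 : F) ^ n • L ^ n := fun n => by
    rw [adj_pow hf, hadjL, ← neg_one_smul F L, smul_pow]
  by_cases h1 : ∀ g ∈ H, (a g) ^ 2 = 1
  · by_cases h0 : ∀ g ∈ H, a g = 1
    · exfalso
      obtain ⟨r, hr0, hr⟩ := hscal 1 fun g hg => by rw [pow_one, h0 g hg]
      rw [pow_one] at hr
      rw [hr, adj_smul hf, adj_one hf, ← neg_smul] at hadjL
      exact mul_ne_zero h2 hr0 (by linear_combination smul_one_inj hadjL)
    push Not at h0
    obtain ⟨g₀, hg₀, hne⟩ := h0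
    obtain ⟨r, hr0, hr⟩ := hscal 2 h1
    have hs1 := hsign 1 fun g hg => by rw [pow_one]; exact sq_eq_one_iff.1 (h1 g hg)
    simp only [pow_one] at hs1
    refine geometric_involutive c hHa.1 h2 hr0 (by rw [← pow_two, hr]) (Or.inr hadjL) hs1 hg₀ ?_
    rw [haL g₀ hg₀, (sq_eq_one_iff.1 (h1 g₀ hg₀)).resolve_left hne, neg_one_smul, neg_neg]
  · push Not at h1
    obtain ⟨g₀, hg₀, hne⟩ := h1
    obtain ⟨r, hr0, hr⟩ := hscal 4 ha4
    have h22 : ∀ g ∈ H, (a g) ^ 2 = 1 ∨ (a g) ^ 2 = -1 := fun g hg =>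
      sq_eq_one_iff.1 (by rw [← pow_mul]; exact ha4 g hg)
    refine geometric_involutive c hHa.1 h2 hr0 (M := L ^ 2) (by rw [← pow_add, hr])
      (Or.inl ?_) (hsign 2 h22) hg₀ ?_
    · rw [hadjn, neg_one_sq, one_smul]
    · rw [hpow g₀ hg₀, (h22 g₀ hg₀).resolve_left hne, neg_one_smul, neg_neg]

/-- Similitudes of a quadratic form. -/
theorem geometric_quad_similitude (c : Ctx f H) (hHa : AbsIrr H) {Q : (Fin 4 → F) → F}
    (hQ : Geo.IsNondegenerateQuadraticForm Q) (hle : H ≤ Geo.quadSimilarityGroup Q) :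
    SGeometric f H := by
  classical
  by_cases hodd : Odd (Fintype.card F)
  · exact geometric_symmetric c hHa (two_ne_zero_of_odd hodd) hQ.polar_bilinear hQ.nondegenerate
      (fun u v => QuadraticMap.polar_comm Q u v) (hle.trans quadSimilarity_le_similarity)
  have h2 := c.even_two hodd
  have hfix : Geo.FixesForm (Geo.matrixSet H) (QuadraticMap.polar Q) := by
    rintro s ⟨g, hg, rfl⟩ u v
    obtain ⟨a, ha⟩ := quadSimilarity_le_similarity (hle hg)
    have h4 := multiplier_pow_four hQ.polar_bilinear hQ.nondegenerate (det_eq_one (c.le_specialLinear hg)) ha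
    have h1 : ((a : F) - 1) ^ 4 = 0 := by
      linear_combination h4 + (-2 * (a : F) ^ 3 + 3 * (a : F) ^ 2 - 2 * (a : F) + 1) * h2
    rw [ha, sub_eq_zero.1 ((pow_eq_zero_iff (by norm_num)).1 h1), one_mul]
  obtain ⟨l, hl⟩ := hHa.form_unique c.sesq c.form.nondegenerate
    (IsSesq.of_bilinear hQ.polar_bilinear) (c.fixes le_rfl) hfix
  have hl0 : l ≠ 0 := by
    rintro rfl
    obtain ⟨x, hx⟩ := (hQ.nondegenerate (Pi.single 0 1) (by simp)).1
    exact hx (by rw [hl, zero_mul])
  obtain ⟨hQn, hpol⟩ := quad_of_polar c.form (Q := fun v => l⁻¹ * Q v)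
    (fun a v => by rw [hQ.smul]; ring)
    (fun u v => by
      have h3 := hl u v
      rw [QuadraticMap.polar] at h3
      have h5 : l⁻¹ * l = 1 := inv_mul_cancel₀ hl0
      linear_combination l⁻¹ * h3 + f u v * h5)
  refine geometric_quad c hodd hQn hpol fun g hg => ?_
  obtain ⟨a, ha⟩ := hle hg
  exact ⟨a, fun v => by simp only [ha]; ring⟩

end Cfsg.Agent.AschbacherFour.Sp
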