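import Cfsg.Agent.Lib.AschbacherFour.Sp.Subfield
import Cfsg.Agent.Lib.AschbacherFour.Sp.Similitude
import Cfsg.Agent.Lib.AschbacherFour.Sp.Field
import Cfsg.Agent.Lib.AschbacherFour.Sp.Pauli
import Cfsg.Agent.Lib.AschbacherFour.Structure

/-!
Aschbacher's theorem for the symplectic groups of dimension four.
-/

set_option autoImplicit false

namespace Cfsg.Agent.AschbacherFour.Sp

open Matrix Aschbacher
open scoped MatrixGroups

variable {F : Type*} [Field F] [Fintype F] {f : (Fin 4 → F) → (Fin 4 → F) → F}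
  {H A : Subgroup (GL (Fin 4) F)}

theorem cases_or_geometric (c : Ctx f H) (hirr : Irr H) (hHa : AbsIrr H) (hAH : A ≤ H)
    (hAn : NormalIn H A) (hAs : ¬ A ≤ Geo.scalars (Fin 4) F) : AbsIrr A ∨ SGeometric f H := by
  rcases classify hirr hAn with h | ⟨-, Q, hQ, hHQ, -, -⟩ | ⟨-, h | h | h | h⟩
  · exact Or.inl h
  · exact Or.inr (geometric_quad_similitude c hHa hQ hHQ)
  · exact absurd h hAs
  · exact Or.inr (geometric_lines_case c hAH h)
  · exact Or.inr (geometric_planes_case c hAH h)
  · exact Or.inr (geometric_field_case c hirr hAH h)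

/-- A symplectic type normal subgroup gives a geometric subgroup. -/
theorem geometric_symType (c : Ctx f H) {N : Subgroup (GL (Fin 4) F)} (hNH : N ≤ H)
    (hNn : NormalIn H N) (hNa : AbsIrr N) (hN : SymType N) : SGeometric f H := by
  classical
  obtain ⟨p, hpC⟩ := CharP.exists F
  haveI := hpC
  obtain ⟨e, hp, hcard⟩ := FiniteField.card F p
  haveI : Fact p.Prime := ⟨hp⟩
  have hNf : N ≤ isom f := hNH.trans c.maximal.1.le
  by_cases he : (e : ℕ) = 1
  · exact geometric_pauli c hp (by rw [hcard, he, pow_one]) hN hNf fun g hg => by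
      show g ∈ Subgroup.normalizer (N : Set (GL (Fin 4) F))
      rw [Subgroup.mem_normalizer_iff]
      exact fun x => ⟨fun hx => hNn g hg x hx, fun hx => by
        simpa [mul_assoc] using hNn g⁻¹ (H.inv_mem hg) _ hx⟩
  · refine geometric_realisable c hNH hNa hNn (F₁ := fixedBy p 1)
      (fixedBy_ne_top p one_pos ?_) (realisable c.form hN hNf _)
    rw [hcard]
    exact Nat.pow_lt_pow_right hp.one_lt (by have := e.pos; omega)

/-- Aschbacher's theorem for `Sp₄`. -/
theorem sp_four (c : Ctx f H) : SGeometric f H ∨ Geo.InSymplecticResidualClass H := by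
  classical
  by_cases hG : SGeometric f H
  · exact Or.inl hG
  right
  have hirr : Irr H := by
    by_contra hirr
    exact hG (geometric_reducible c hirr)
  have hHa : AbsIrr H := (absIrr_or_geometric c hirr).resolve_right hG
  have hnorm : ∀ A, A ≤ H → NormalIn H A → ¬ A ≤ Geo.scalars (Fin 4) F → AbsIrr A :=
    fun A hA hn hs => (cases_or_geometric c hirr hHa hA hn hs).resolve_right hG
  rcases structure_four c.le_specialLinear hirr hnorm
    (fun Q hQ hle => hG (geometric_quad_similitude c hHa hQ hle)) with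
    ⟨N, hNH, hNn, hNa, hN, -⟩ | ⟨P, hP⟩
  · exact absurd (geometric_symType c hNH hNn hNa hN) hG
  · have hsub : ∀ F₁ : Subfield F, F₁ ≠ ⊤ → ¬ Geo.RealisableOver F₁ (Geo.matrixSet P) := fun F₁ h1 h2 =>
      hG (geometric_realisable c hP.le hP.absIrred hP.normal h1 h2)
    refine ⟨P, hP.isResidualCore hsub, ?_, ?_⟩
    · rintro ⟨Q, hQ, hfix⟩
      exact hG (geometric_quad_similitude c hHa hQ (quadSimilarity_of_fixed hP.absIrred hQ hfix hP.normal))
    · rintro ⟨σ, h, hh, hfix⟩
      have hH := exists_herm hh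
      exact hsub _ hH.fixedField_ne_top
        (hH.realisable_of_bilinear hP.absIrred hfix c.form.bilinear c.form.nondegenerate (c.fixes hP.le))

end Cfsg.Agent.AschbacherFour.Sp
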