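import Cfsg.Agent.Lib.AschbacherFour.Sp.Main
import Cfsg.Agent.Lib.Aschbacher.Reindex
import Cfsg.Agent.Lib.MaxCl.Symplectic

/-!
The standard symplectic form on the coordinates `Fin 2 ⊕ Fin 2`.
-/

set_option autoImplicit false

namespace Cfsg.Agent.AschbacherFour.Sp

open Aschbacher
open scoped MatrixGroups

/-- The coordinates. -/
def coords : Fin 4 ≃ Fin 2 ⊕ Fin 2 := (finSumFinEquiv (m := 2) (n := 2)).symm

/-- The geometric possibilities for the standard form. -/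
theorem standard_cases {F : Type*} [Field F] [Fintype F]
    (hlarge : Odd (Fintype.card F) ∨ 4 ≤ Fintype.card F) {H : Subgroup (GL (Fin 2 ⊕ Fin 2) F)}
    (hH : Geo.IsMaximalIn (spGL 2 F) H) :
    (∃ W : Submodule F (Fin 2 ⊕ Fin 2 → F), W ≠ ⊥ ∧ Geo.IsTotallySingularFor (sympForm 2 F) W ∧
      H = Geo.subspaceStabilizer W ⊓ spGL 2 F) ∨
    (∃ D : Fin 2 → Submodule F (Fin 2 ⊕ Fin 2 → F), Geo.IsNondegenerateMDecomposition (sympForm 2 F) 2 D ∧
      H = Geo.decompositionStabilizer D ⊓ spGL 2 F) ∨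
    (Odd (Fintype.card F) ∧ 5 ≤ Fintype.card F ∧ ∃ D : Fin 2 → Submodule F (Fin 2 ⊕ Fin 2 → F),
      Geo.IsMDecomposition 2 D ∧ (∀ i, Geo.IsTotallySingularFor (sympForm 2 F) (D i)) ∧
      H = Geo.decompositionStabilizer D ⊓ spGL 2 F) ∨
    (∃ K : Subalgebra F (Matrix (Fin 2 ⊕ Fin 2) (Fin 2 ⊕ Fin 2) F), Geo.IsFieldSubalgebra 2 K ∧
      Geo.IsSelfAdjointFor (sympForm 2 F) K ∧
      (∀ k ∈ K, ∀ v : Fin 2 ⊕ Fin 2 → F, sympForm 2 F (Matrix.mulVec k v) v = 0) ∧
      H = Geo.subalgebraNormalizer K ⊓ spGL 2 F) ∨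
    (Odd (Fintype.card F) ∧ 5 ≤ Fintype.card F ∧
      ∃ K : Subalgebra F (Matrix (Fin 2 ⊕ Fin 2) (Fin 2 ⊕ Fin 2) F), Geo.IsFieldSubalgebra 2 K ∧
      Geo.IsAdjointClosedFor (sympForm 2 F) K ∧ ¬ Geo.IsSelfAdjointFor (sympForm 2 F) K ∧
      H = Geo.subalgebraNormalizer K ⊓ spGL 2 F) ∨
    (∃ (F₀ : Subfield F) (r : ℕ) (P : GL (Fin 2 ⊕ Fin 2) F) (ζ : F), r.Prime ∧
      Fintype.card F = Nat.card F₀ ^ r ∧ ζ ≠ 0 ∧ Geo.IsFormRationalStructure (sympForm 2 F) F₀ ζ P ∧
      H = Geo.subfieldSubgroup F₀ P ⊓ spGL 2 F) ∨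
    (Odd (Fintype.card F) ∧ ∃ (p : ℕ) (R : Subgroup (GL (Fin 2 ⊕ Fin 2) F)), p.Prime ∧
      Fintype.card F = p ∧ Geo.IsSymplecticTypeGroup 2 R ∧
      Geo.ActsAbsolutelyIrreducibly (Geo.matrixSet R) ∧
      R ≤ Geo.similarityGroup (sympForm 2 F) ∧ Nat.card R = 32 ∧ Nat.card (Subgroup.center R) = 2 ∧
      Geo.IsOfMinusType 2 R ∧ H = Geo.subgroupNormalizer R ⊓ spGL 2 F) ∨
    (¬ Odd (Fintype.card F) ∧ ∃ Q : (Fin 2 ⊕ Fin 2 → F) → F, Geo.IsNondegenerateQuadraticForm Q ∧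
      (∀ u v, QuadraticMap.polar Q u v = sympForm 2 F u v) ∧
      H = Geo.quadSimilarityGroup Q ⊓ spGL 2 F) ∨
    Geo.InSymplecticResidualClass H := by
  have hI : (spGL 2 F).comap (Reindex.tg coords).toMonoidHom = isom (Reindex.pull coords (sympForm 2 F)) :=
    Reindex.preserving_comap coords _
  have c : Ctx (Reindex.pull coords (sympForm 2 F)) (H.comap (Reindex.tg coords).toMonoidHom) :=
    ⟨Reindex.isSymplecticForm coords (MaxCl.sympForm_isSymplectic 2 F), hlarge,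
      hI ▸ Reindex.isMaximalIn coords hH⟩
  rcases sp_four c with
    (⟨W, hW, hts, h⟩ | ⟨D, hD, h⟩ | ⟨ho, h5, D, hD, hts, h⟩ | ⟨K, hK, hsa, halt, h⟩ |
      ⟨ho, h5, K, hK, hac, hns, h⟩ | ⟨F₀, r, P, ζ, hr, hcard, hζ, hrat, h⟩ |
      ⟨ho, p, R, hp, hq, hR, hRa, hRs, h32, hc2, hRm, h⟩ | ⟨he, Q, hQ, hpol, h⟩) | hres
  · exact Or.inl ⟨_, Reindex.tw_ne_bot coords hW, Reindex.isTotallySingularFor coords hts,
      Reindex.eq_inf_of_comap coords (Reindex.subspaceStabilizer_comap coords W) hI h⟩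
  · exact Or.inr <| Or.inl ⟨_, Reindex.isNondegenerateMDecomposition coords hD,
      Reindex.eq_inf_of_comap coords (Reindex.decompositionStabilizer_comap coords D) hI h⟩
  · exact Or.inr <| Or.inr <| Or.inl ⟨ho, h5, _, Reindex.isMDecomposition coords hD,
      fun i => Reindex.isTotallySingularFor coords (hts i),
      Reindex.eq_inf_of_comap coords (Reindex.decompositionStabilizer_comap coords D) hI h⟩
  · exact Or.inr <| Or.inr <| Or.inr <| Or.inl ⟨_, Reindex.isFieldSubalgebra coords hK,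
      (Reindex.isSelfAdjointFor_iff coords).2 hsa, Reindex.alternating_tk coords halt,
      Reindex.eq_inf_of_comap coords (Reindex.subalgebraNormalizer_comap coords K) hI h⟩
  · exact Or.inr <| Or.inr <| Or.inr <| Or.inr <| Or.inl ⟨ho, h5, _, Reindex.isFieldSubalgebra coords hK,
      Reindex.isAdjointClosedFor coords hac, mt (Reindex.isSelfAdjointFor_iff coords).1 hns,
      Reindex.eq_inf_of_comap coords (Reindex.subalgebraNormalizer_comap coords K) hI h⟩
  · exact Or.inr <| Or.inr <| Or.inr <| Or.inr <| Or.inr <| Or.inl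
      ⟨F₀, r, _, ζ, hr, hcard, hζ, Reindex.isFormRationalStructure coords hrat,
        Reindex.eq_inf_of_comap coords (Reindex.subfieldSubgroup_comap coords F₀ P) hI h⟩
  · refine Or.inr <| Or.inr <| Or.inr <| Or.inr <| Or.inr <| Or.inr <| Or.inl
      ⟨ho, p, R.map (Reindex.tg coords).toMonoidHom, hp, hq, Reindex.isSymplecticTypeGroup coords hR,
        Reindex.actsAbsolutelyIrreducibly coords hRa, Reindex.similarityGroup coords hRs, ?_, ?_,
        Reindex.isOfMinusType coords hRm,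
        Reindex.eq_inf_of_comap coords (Reindex.subgroupNormalizer_comap coords R) hI h⟩
    · exact (Nat.card_congr (Reindex.tsub coords R).toEquiv).symm.trans h32
    · exact (Reindex.card_center_congr (Reindex.tsub coords R)).symm.trans hc2
  · refine Or.inr <| Or.inr <| Or.inr <| Or.inr <| Or.inr <| Or.inr <| Or.inr <| Or.inl
      ⟨he, _, Reindex.isNondegenerateQuadraticForm coords hQ, fun u v => ?_,
        Reindex.eq_inf_of_comap coords (Reindex.quadSimilarityGroup_comap coords Q) hI h⟩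
    have h1 := hpol ((Reindex.tv coords).symm u) ((Reindex.tv coords).symm v)
    simp only [Reindex.pull, LinearEquiv.apply_symm_apply] at h1
    rw [← h1]
    simp only [QuadraticMap.polar, map_add]
  · exact Or.inr <| Or.inr <| Or.inr <| Or.inr <| Or.inr <| Or.inr <| Or.inr <| Or.inr
      (Reindex.inSymplecticResidualClass coords hres)

end Cfsg.Agent.AschbacherFour.Sp
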