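import Cfsg.Agent.Lib.AschbacherFour.Sp.Basic
import Cfsg.Agent.Lib.Aschbacher.OrthRational

/-!
The subfield class in the symplectic groups of dimension four.
-/

set_option autoImplicit false

namespace Cfsg.Agent.AschbacherFour.Sp

open Matrix Aschbacher
open scoped MatrixGroups

variable {F : Type*} [Field F] [Fintype F] {f : (Fin 4 → F) → (Fin 4 → F) → F}
  {H : Subgroup (GL (Fin 4) F)}

/-- A rational structure of an absolutely irreducible group of isometries carries a multiple of the form. -/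
theorem exists_formRational (hf : Geo.IsSymplecticForm f) {N : Subgroup (GL (Fin 4) F)} (hN : AbsIrr N)
    (hfN : Geo.FixesForm (Geo.matrixSet N) f) {F₀ : Subfield F} {C : GL (Fin 4) F}
    (hC : ∀ s ∈ Geo.matrixSet N, ∀ i j,
      ((C : Matrix (Fin 4) (Fin 4) F) * s * ((C⁻¹ : GL (Fin 4) F) : Matrix (Fin 4) (Fin 4) F)) i j ∈ F₀) :
    ∃ ζ : F, ζ ≠ 0 ∧ Geo.IsFormRationalStructure f F₀ ζ C⁻¹ := by
  classical
  haveI : Fintype F₀ := Fintype.ofFinite _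
  set Gm := Geo.gramMatrix f with hGm
  set P₀ : Matrix (Fin 4) (Fin 4) F := ((C⁻¹ : GL (Fin 4) F) : Matrix (Fin 4) (Fin 4) F) with hP₀
  set G : Matrix (Fin 4) (Fin 4) F := P₀ᵀ * Gm * P₀ with hG
  have hBG : ∀ u v, f (P₀ *ᵥ u) (P₀ *ᵥ v) = u ⬝ᵥ (G *ᵥ v) := fun u v => by
    rw [form_eq_gram hf, hG, ← Matrix.mulVec_mulVec, ← Matrix.mulVec_mulVec,
      Matrix.dotProduct_mulVec u, Matrix.vecMul_transpose]
  have hGapply : ∀ i j, G i j = f (P₀ *ᵥ Pi.single i 1) (P₀ *ᵥ Pi.single j 1) := fun i j => by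
    rw [hBG]; simp
  clear_value G
  let φ : F →ₐ[F₀] F := FiniteField.frobeniusAlgHom F₀ F
  have hφ : ∀ {x : F}, x ∈ F₀ → φ x = x := fun {x} hx => φ.commutes ⟨x, hx⟩
  have hφfix : ∀ {x : F}, φ x = x → x ∈ F₀ := fun {x} hx => mem_subfield_of_pow_eq (by
    simpa [φ, Nat.card_eq_fintype_card] using hx)
  let g : (Fin 4 → F) → (Fin 4 → F) → F := fun u v =>
    ((C : Matrix (Fin 4) (Fin 4) F) *ᵥ u) ⬝ᵥ (G.map φ *ᵥ ((C : Matrix (Fin 4) (Fin 4) F) *ᵥ v))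
  have hgs : IsSesq (RingHom.id F) g :=
    ⟨fun x y v => by simp only [g, Matrix.mulVec_add, add_dotProduct],
      fun c x v => by simp only [g, Matrix.mulVec_smul, smul_dotProduct, smul_eq_mul],
      fun v x y => by simp only [g, Matrix.mulVec_add, dotProduct_add],
      fun c v x => by simp only [g, Matrix.mulVec_smul, dotProduct_smul, smul_eq_mul, RingHom.id_apply]⟩
  obtain ⟨l, hl⟩ := hN.form_unique (IsSesq.of_bilinear hf.bilinear) hf.nondegenerate hgs hfN (by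
    rintro s ⟨x, hx, rfl⟩ u v
    set x₀ : Matrix (Fin 4) (Fin 4) F := (C : Matrix (Fin 4) (Fin 4) F) * (x : Matrix (Fin 4) (Fin 4) F) * P₀
      with hx₀
    have hx₀mem : ∀ i j, x₀ i j ∈ F₀ := hC _ ⟨x, hx, rfl⟩
    have hCx : ∀ w, (C : Matrix (Fin 4) (Fin 4) F) *ᵥ ((x : Matrix (Fin 4) (Fin 4) F) *ᵥ w) =
        x₀ *ᵥ ((C : Matrix (Fin 4) (Fin 4) F) *ᵥ w) := fun w => by
      rw [hx₀, hP₀, ← Matrix.mulVec_mulVec, ← Matrix.mulVec_mulVec, inv_mulVec]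
    have hPx : ∀ w, P₀ *ᵥ (x₀ *ᵥ w) = (x : Matrix (Fin 4) (Fin 4) F) *ᵥ (P₀ *ᵥ w) := fun w => by
      rw [hx₀, ← Matrix.mulVec_mulVec, ← Matrix.mulVec_mulVec, hP₀, inv_mulVec]
    have hinv : x₀ᵀ * G * x₀ = G := by
      ext i j
      have h1 : (x₀ᵀ * G * x₀) i j = (x₀ *ᵥ Pi.single i 1) ⬝ᵥ (G *ᵥ (x₀ *ᵥ Pi.single j 1)) := by
        rw [← Matrix.vecMul_transpose, ← Matrix.dotProduct_mulVec, Matrix.mulVec_mulVec,
          Matrix.mulVec_mulVec]
        simp [Matrix.mul_assoc]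
      rw [h1, ← hBG, hPx, hPx, hfN _ ⟨x, hx, rfl⟩, hGapply]
    clear_value x₀
    have hinvφ : x₀ᵀ * G.map φ * x₀ = G.map φ := by
      have h0 : x₀.map φ = x₀ := Matrix.ext fun i j => hφ (hx₀mem i j)
      calc x₀ᵀ * G.map φ * x₀ = (x₀.map φ)ᵀ * G.map φ * x₀.map φ := by rw [h0]
        _ = (x₀ᵀ * G * x₀).map φ := by rw [Matrix.map_mul, Matrix.map_mul, Matrix.transpose_map]
        _ = G.map φ := by rw [hinv]
    show (_ ⬝ᵥ _) = _ ⬝ᵥ _
    rw [hCx, hCx, Matrix.mulVec_mulVec (M := G.map φ), ← Matrix.vecMul_transpose,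
      ← Matrix.dotProduct_mulVec, Matrix.mulVec_mulVec, ← Matrix.mul_assoc, hinvφ])
  have hφG : ∀ i j, φ (G i j) = l * G i j := fun i j => by
    have h1 := hl (P₀ *ᵥ Pi.single i 1) (P₀ *ᵥ Pi.single j 1)
    simp only [g, hP₀, mulVec_inv] at h1
    rw [← hP₀, ← hGapply] at h1
    simpa using h1
  obtain ⟨i₀, j₀, hne⟩ : ∃ i j, G i j ≠ 0 := by
    by_contra hc
    push Not at hc
    obtain ⟨y, hy⟩ := (hf.nondegenerate (P₀ *ᵥ Pi.single 0 1) (fun h0 => by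
      have h3 := (mulVec_eq_zero_iff C⁻¹).1 h0
      simpa using congrFun h3 0)).2
    apply hy
    rw [← inv_mulVec C y, ← hP₀, hBG, show G = 0 from Matrix.ext hc]
    simp
  have hl0 : l ≠ 0 := by
    intro h0
    have := hφG i₀ j₀
    rw [h0, zero_mul] at this
    exact hne (φ.toRingHom.injective (this.trans (map_zero _).symm))
  have hmem : ∀ i j, (G i₀ j₀)⁻¹ * G i j ∈ F₀ := fun i j => hφfix (by
    rw [map_mul, map_inv₀, hφG, hφG]; field_simp)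
  refine ⟨(G i₀ j₀)⁻¹, inv_ne_zero hne, fun u v hu hv => ?_⟩
  rw [← hP₀, hBG]
  simp only [dotProduct, Matrix.mulVec, Finset.mul_sum]
  exact sum_mem fun i _ => sum_mem fun j _ => by
    rw [show (G i₀ j₀)⁻¹ * (u i * (G i j * v j)) = u i * ((G i₀ j₀)⁻¹ * G i j) * v j by ring]
    exact mul_mem (mul_mem (hu i) (hmem i j)) (hv j)

/-- The subfield class. -/
theorem geometric_realisable (c : Ctx f H) {P : Subgroup (GL (Fin 4) F)} (hPH : P ≤ H)
    (hPa : AbsIrr P) (hPn : NormalIn H P) {F₁ : Subfield F} (hF₁ : F₁ ≠ ⊤)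
    (hreal : Geo.RealisableOver F₁ (Geo.matrixSet P)) : SGeometric f H := by
  obtain ⟨F₀, r, hle, hr, hcard⟩ := exists_prime_index hF₁
  obtain ⟨C, hC⟩ := hreal
  have hC' : ∀ s ∈ Geo.matrixSet P, ∀ i j,
      ((C : Matrix (Fin 4) (Fin 4) F) * s * ((C⁻¹ : GL (Fin 4) F) : Matrix (Fin 4) (Fin 4) F)) i j ∈ F₀ :=
    fun s hs i j => hle (hC s hs i j)
  have hF₀ : F₀ ≠ ⊤ := by
    rintro rfl
    have h1 : Nat.card (⊤ : Subfield F) = Fintype.card F := by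
      rw [Nat.card_congr (Subfield.topEquiv).toEquiv, Nat.card_eq_fintype_card]
    rw [h1] at hcard
    exact absurd hcard (ne_of_lt (lt_of_eq_of_lt (pow_one _).symm
      (Nat.pow_lt_pow_right Fintype.one_lt_card hr.one_lt)))
  obtain ⟨ζ, hζ, hrat⟩ := exists_formRational c.form hPa (c.fixes hPH) hC'
  exact Or.inr <| Or.inr <| Or.inr <| Or.inr <| Or.inr <| Or.inl
    ⟨F₀, r, C⁻¹, ζ, hr, hcard, hζ, hrat,
      c.eq_inf (hPa.le_subfieldSubgroup hC' hPn) (not_le_subfieldSubgroup c.form hF₀ _)⟩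

end Cfsg.Agent.AschbacherFour.Sp
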